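import Groth.Agent.Lib.FlatGr5.Setup

/-! # Base change of the relations and flatness -/

set_option autoImplicit false
set_option linter.style.haveILetI false
universe u

open TensorProduct

namespace GrothLib.FlatGr5

section General

variable {R : Type u} [CommRing R] {N K P : Type u} [AddCommGroup N] [Module R N] [AddCommGroup K] [Module R K]
  [AddCommGroup P] [Module R P]

/-- A kernel of a surjection of flat modules is flat. -/
theorem flat_left (g : K →ₗ[R] N) (f : N →ₗ[R] P) (hg : Function.Injective g) (hf : Function.Surjective f)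
    (H : Function.Exact g f) [Module.Flat R N] [Module.Flat R P] : Module.Flat R K := by
  rw [Module.Flat.iff_rTensor_preserves_injective_linearMap]
  intro A A' _ _ _ _ i hi
  have h : (g.lTensor A') ∘ₗ (i.rTensor K) = (i.rTensor N) ∘ₗ (g.lTensor A) := by
    rw [LinearMap.lTensor_comp_rTensor, LinearMap.rTensor_comp_lTensor]
  have h2 : Function.Injective ((g.lTensor A') ∘ₗ (i.rTensor K)) := by
    rw [h]
    exact (Module.Flat.rTensor_preserves_injective_linearMap i hi).comp
      (LinearMap.lTensor_injective_of_exact_of_flat f hf g hg H A)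
  exact Function.Injective.of_comp (f := g.lTensor A') h2

/-- An extension of flat modules is flat. -/
theorem flat_middle (g : K →ₗ[R] N) (f : N →ₗ[R] P) (hg : Function.Injective g) (hf : Function.Surjective f)
    (H : Function.Exact g f) [Module.Flat R K] [Module.Flat R P] : Module.Flat R N := by
  rw [Module.Flat.iff_rTensor_preserves_injective_linearMap]
  intro A A' _ _ _ _ i hi
  rw [injective_iff_map_eq_zero]
  intro z hz
  have h1 : f.lTensor A z = 0 := by
    apply Module.Flat.rTensor_preserves_injective_linearMap (M := P) i hi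
    rw [map_zero, ← LinearMap.comp_apply, LinearMap.rTensor_comp_lTensor, ← LinearMap.lTensor_comp_rTensor,
      LinearMap.comp_apply, hz, map_zero]
  obtain ⟨y, rfl⟩ := (lTensor_exact A H hf z).1 h1
  have h2 : i.rTensor K y = 0 := by
    apply LinearMap.lTensor_injective_of_exact_of_flat f hf g hg H A'
    rw [map_zero, ← LinearMap.comp_apply, LinearMap.lTensor_comp_rTensor, ← LinearMap.rTensor_comp_lTensor,
      LinearMap.comp_apply, hz]
  rw [(map_eq_zero_iff _ (Module.Flat.rTensor_preserves_injective_linearMap (M := K) i hi)).1 h2, map_zero]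

variable {X : Type u} [AddCommGroup X] [Module R X]

theorem exact_rangeSubtype (f : X →ₗ[R] N) (g : N →ₗ[R] P) (H : Function.Exact f g) :
    Function.Exact (LinearMap.range f).subtype g := fun y => by
  rw [H y]; simp

/-- The kernel of a tensored map whose cokernel is flat. -/
theorem exists_of_lTensor_eq_zero (f : X →ₗ[R] N) (g : N →ₗ[R] P) (hg : Function.Surjective g)
    (H : Function.Exact f g) [Module.Flat R P] (A : Type u) [AddCommGroup A] [Module R A] (t : A ⊗[R] X)
    (ht : f.lTensor A t = 0) : ∃ s, (LinearMap.ker f).subtype.lTensor A s = t := by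
  let W := LinearMap.range f
  have hinj : Function.Injective (W.subtype.lTensor A) :=
    LinearMap.lTensor_injective_of_exact_of_flat g hg W.subtype W.subtype_injective (exact_rangeSubtype f g H) A
  have hfac : f = W.subtype ∘ₗ f.rangeRestrict := rfl
  have h2 : f.rangeRestrict.lTensor A t = 0 := hinj (by
    rw [map_zero, ← LinearMap.comp_apply, ← LinearMap.lTensor_comp, ← hfac, ht])
  have hex : Function.Exact (LinearMap.ker f).subtype f.rangeRestrict := by
    intro y
    rw [← LinearMap.mem_ker, LinearMap.ker_rangeRestrict]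
    simp
  exact (lTensor_exact A hex f.surjective_rangeRestrict t).1 h2

theorem flat_quot_ker (f : X →ₗ[R] N) (g : N →ₗ[R] P) (hg : Function.Surjective g)
    (H : Function.Exact f g) [Module.Flat R N] [Module.Flat R P] : Module.Flat R (X ⧸ LinearMap.ker f) := by
  haveI := flat_left (LinearMap.range f).subtype g (Submodule.subtype_injective _) hg (exact_rangeSubtype f g H)
  exact Module.Flat.of_linearEquiv f.quotKerEquivRange

theorem flat_of_quot_ker (f : X →ₗ[R] N) (g : N →ₗ[R] P) (hg : Function.Surjective g)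
    (H : Function.Exact f g) [Module.Flat R (X ⧸ LinearMap.ker f)] [Module.Flat R P] : Module.Flat R N := by
  haveI : Module.Flat R (LinearMap.range f) := Module.Flat.of_linearEquiv f.quotKerEquivRange.symm
  exact flat_middle (LinearMap.range f).subtype g (Submodule.subtype_injective _) hg (exact_rangeSubtype f g H)

end General

section Theta

variable (C : Type u) [CommRing C] (R R' : Type u) [CommRing R] [Algebra C R] [CommRing R'] [Algebra C R']
  [Algebra R R'] [IsScalarTower C R R'] (X : Type u) [AddCommGroup X] [Module C X]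

/-- `R ⊗ X → R' ⊗ X`. -/
noncomputable def theta : R ⊗[C] X →ₗ[C] R' ⊗[C] X :=
  (IsScalarTower.toAlgHom C R R').toLinearMap.rTensor X

theorem theta_tmul (a : R) (x : X) : theta C R R' X (a ⊗ₜ[C] x) = algebraMap R R' a ⊗ₜ[C] x := rfl

theorem theta_smul (a : R) (z : R ⊗[C] X) : theta C R R' X (a • z) = algebraMap R R' a • theta C R R' X z := by
  induction z with
  | zero => simp
  | add p q hp hq => rw [smul_add, map_add, map_add, smul_add, hp, hq]
  | tmul c x => rw [TensorProduct.smul_tmul', theta_tmul, theta_tmul, TensorProduct.smul_tmul', smul_eq_mul,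
      smul_eq_mul, map_mul]

theorem theta_baseChange {Y : Type u} [AddCommGroup Y] [Module C Y] (f : X →ₗ[C] Y) (z : R ⊗[C] X) :
    theta C R R' Y (f.baseChange R z) = f.baseChange R' (theta C R R' X z) := by
  induction z with
  | zero => simp
  | add p q hp hq => simp [map_add, hp, hq]
  | tmul c x => rfl

theorem cancel_tmul (a : R') (z : R ⊗[C] X) :
    AlgebraTensorModule.cancelBaseChange C R R' R' X (a ⊗ₜ[R] z) = a • theta C R R' X z := by
  induction z with
  | zero => simp
  | add p q hp hq => rw [TensorProduct.tmul_add, map_add, map_add, smul_add, hp, hq]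
  | tmul c x =>
    rw [AlgebraTensorModule.cancelBaseChange_tmul, theta_tmul, TensorProduct.smul_tmul', smul_eq_mul, Algebra.smul_def,
      mul_comm]

theorem cancel_comm {Y : Type u} [AddCommGroup Y] [Module C Y] (f : X →ₗ[C] Y) (t : R' ⊗[R] (R ⊗[C] X)) :
    AlgebraTensorModule.cancelBaseChange C R R' R' Y ((f.baseChange R).lTensor R' t) =
      f.baseChange R' (AlgebraTensorModule.cancelBaseChange C R R' R' X t) := by
  induction t with
  | zero => simp
  | add p q hp hq => simp [map_add, hp, hq]
  | tmul a z => rw [LinearMap.lTensor_tmul, cancel_tmul, cancel_tmul, theta_baseChange, map_smul]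

theorem theta_injective (hinj : Function.Injective (algebraMap R R')) [Module.Flat R (R ⊗[C] X)] :
    Function.Injective (theta C R R' X) := by
  let i : R →ₗ[R] R' := Algebra.linearMap R R'
  have h : ∀ z, theta C R R' X z = AlgebraTensorModule.cancelBaseChange C R R' R' X
      (i.rTensor (R ⊗[C] X) ((1 : R) ⊗ₜ[R] z)) := fun z => by
    rw [LinearMap.rTensor_tmul, cancel_tmul, show i 1 = 1 from map_one (algebraMap R R'), one_smul]
  intro a c hac
  rw [h, h] at hac
  have h2 := Module.Flat.rTensor_preserves_injective_linearMap i hinj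
    ((AlgebraTensorModule.cancelBaseChange C R R' R' X).injective hac)
  simpa using congrArg (TensorProduct.lid R (R ⊗[C] X)) h2

end Theta

open MvPolynomial

variable {C : Type u} [CommRing C] {B : Type u} [CommRing B] [Algebra C B]
variable (M : Type u) [AddCommGroup M] [Module B M] [Module C M] [IsScalarTower C B M]
variable {r : ℕ} (b : Fin r → B)

variable (C) in
/-- `M ⧸ J ^ n M`. -/
abbrev Qm (n : ℕ) : Type u := M ⧸ ((Jb b) ^ n • (⊤ : Submodule B M)).restrictScalars C

variable (C) in
/-- The degree `n` map to `M ⧸ J ^ (n + 1) M`. -/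
noncomputable def fn (n : ℕ) : Pm B M r →ₗ[C] Qm C M b (n + 1) :=
  Submodule.mkQ _ ∘ₗ ev C M b n

variable (C) in
/-- `M ⧸ J ^ (n + 1) M → M ⧸ J ^ n M`. -/
noncomputable def pn (n : ℕ) : Qm C M b (n + 1) →ₗ[C] Qm C M b n :=
  Submodule.mapQ _ _ LinearMap.id fun _ h => Submodule.smul_mono_left (Ideal.pow_le_pow_right n.le_succ) h

theorem exact_fn_pn (n : ℕ) : Function.Exact (fn C M b n) (pn C M b n) := by
  intro y
  obtain ⟨m, rfl⟩ := Submodule.Quotient.mk_surjective _ y
  constructor
  · intro h
    have h' : m ∈ ((Jb b) ^ n • (⊤ : Submodule B M)).restrictScalars C := (Submodule.Quotient.mk_eq_zero _).1 h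
    rw [← range_ev] at h'
    obtain ⟨x, hx⟩ := h'
    exact ⟨x, congrArg Submodule.Quotient.mk hx⟩
  · rintro ⟨x, hx⟩
    rw [← hx]
    exact (Submodule.Quotient.mk_eq_zero _).2 ((range_ev (C := C) M b n).le ⟨x, rfl⟩)

theorem pn_surjective (n : ℕ) : Function.Surjective (pn C M b n) := fun y => by
  obtain ⟨m, rfl⟩ := Submodule.Quotient.mk_surjective _ y
  exact ⟨Submodule.Quotient.mk m, rfl⟩

variable (R : Type u) [CommRing R] [Algebra C R]

theorem exact_baseChange (n : ℕ) :
    Function.Exact ((fn C M b n).baseChange R) ((pn C M b n).baseChange R) :=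
  lTensor_exact R (exact_fn_pn M b n) (pn_surjective M b n)

theorem pn_baseChange_surjective (n : ℕ) : Function.Surjective ((pn C M b n).baseChange R) :=
  LinearMap.lTensor_surjective R (pn_surjective M b n)

theorem mkQ_baseChange_eq_zero_iff (n : ℕ) (z : R ⊗[C] M) :
    (Submodule.mkQ (((Jb b) ^ n • (⊤ : Submodule B M)).restrictScalars C)).baseChange R z = 0 ↔
      z ∈ F C M b R n :=
  lTensor_exact R (LinearMap.exact_subtype_mkQ _) (Submodule.mkQ_surjective _) z

theorem fn_baseChange_eq_zero_iff (n : ℕ) (x : R ⊗[C] Pm B M r) :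
    (fn C M b n).baseChange R x = 0 ↔ (ev C M b n).baseChange R x ∈ F C M b R (n + 1) := by
  rw [← mkQ_baseChange_eq_zero_iff, fn, LinearMap.baseChange_comp, LinearMap.comp_apply]

/-- The quotient `(R ⊗ M) ⧸ J ^ n (R ⊗ M)`. -/
noncomputable def quotEquiv (n : ℕ) : ((R ⊗[C] M) ⧸ F C M b R n) ≃ₗ[R] R ⊗[C] Qm C M b n :=
  (Submodule.quotEquivOfEq _ _ (Submodule.ext fun z => (mkQ_baseChange_eq_zero_iff M b R n z).symm)) ≪≫ₗ
    ((Submodule.mkQ (((Jb b) ^ n • (⊤ : Submodule B M)).restrictScalars C)).baseChange R).quotKerEquivOfSurjective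
      (LinearMap.lTensor_surjective R (Submodule.mkQ_surjective _))

variable (C) in
/-- All truncations are flat. -/
def QFlat : Prop := ∀ n, Module.Flat R (R ⊗[C] Qm C M b n)

instance flat_Qm_zero : Module.Flat R (R ⊗[C] Qm C M b 0) := by
  haveI : Subsingleton (Qm C M b 0) := Submodule.Quotient.subsingleton_iff.2 (by simp)
  infer_instance

theorem flat_quot_iff (n : ℕ) :
    Module.Flat R ((R ⊗[C] M) ⧸ F C M b R n) ↔ Module.Flat R (R ⊗[C] Qm C M b n) :=
  ⟨fun _ => Module.Flat.of_linearEquiv (quotEquiv M b R n).symm,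
    fun _ => Module.Flat.of_linearEquiv (quotEquiv M b R n)⟩

variable (R' : Type u) [CommRing R'] [Algebra C R'] [Algebra R R'] [IsScalarTower C R R']

/-- Base change of the kernels when the truncations are flat. -/
theorem ker_le_span (n : ℕ) [Module.Flat R (R ⊗[C] Qm C M b n)] (x : R' ⊗[C] Pm B M r)
    (hx : (fn C M b n).baseChange R' x = 0) :
    x ∈ Submodule.span R' (theta C R R' (Pm B M r) '' {y | (fn C M b n).baseChange R y = 0}) := by
  let t := (AlgebraTensorModule.cancelBaseChange C R R' R' (Pm B M r)).symm x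
  have ht : ((fn C M b n).baseChange R).lTensor R' t = 0 := by
    apply (AlgebraTensorModule.cancelBaseChange C R R' R' (Qm C M b (n + 1))).injective
    rw [map_zero, cancel_comm, LinearEquiv.apply_symm_apply, hx]
  obtain ⟨s, hs⟩ := exists_of_lTensor_eq_zero (X := R ⊗[C] Pm B M r) (N := R ⊗[C] Qm C M b (n + 1))
    ((fn C M b n).baseChange R) ((pn C M b n).baseChange R) (pn_baseChange_surjective M b R n)
    (exact_baseChange M b R n) R' t ht
  rw [show x = AlgebraTensorModule.cancelBaseChange C R R' R' (Pm B M r) t from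
    (LinearEquiv.apply_symm_apply _ x).symm, ← hs]
  clear hs ht
  induction s with
  | zero => rw [map_zero, map_zero]; exact zero_mem _
  | add p q hp hq => rw [map_add, map_add]; exact add_mem hp hq
  | tmul a y =>
    rw [LinearMap.lTensor_tmul, cancel_tmul]
    exact Submodule.smul_mem _ _ (Submodule.subset_span ⟨_, y.2, rfl⟩)

variable (C) in
/-- The kernels in each degree commute with the base change. -/
def KerBC : Prop :=
  ∀ (n : ℕ) (x : R' ⊗[C] Pm B M r), (fn C M b n).baseChange R' x = 0 →
    x ∈ Submodule.span R' (theta C R R' (Pm B M r) '' {y | (fn C M b n).baseChange R y = 0})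

theorem kerBC_of_qFlat (h : QFlat C M b R) : KerBC C M b R R' := fun n x hx => by
  haveI := h n
  exact ker_le_span M b R R' n x hx

theorem kerBC_of_flat [Module.Flat R R'] : KerBC C M b R R' := fun n x hx => by
  let t := (AlgebraTensorModule.cancelBaseChange C R R' R' (Pm B M r)).symm x
  have ht : ((fn C M b n).baseChange R).lTensor R' t = 0 := by
    apply (AlgebraTensorModule.cancelBaseChange C R R' R' (Qm C M b (n + 1))).injective
    rw [map_zero, cancel_comm, LinearEquiv.apply_symm_apply, hx]
  obtain ⟨s, hs⟩ := (Module.Flat.lTensor_exact (N := ↥(LinearMap.ker ((fn C M b n).baseChange R)))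
    (N' := R ⊗[C] Pm B M r) (N'' := R ⊗[C] Qm C M b (n + 1)) R'
    (LinearMap.exact_subtype_ker_map ((fn C M b n).baseChange R)) t).1 ht
  rw [show x = AlgebraTensorModule.cancelBaseChange C R R' R' (Pm B M r) t from
    (LinearEquiv.apply_symm_apply _ x).symm, ← hs]
  clear hs ht
  induction s with
  | zero => rw [map_zero, map_zero]; exact zero_mem _
  | add p q hp hq => rw [map_add, map_add]; exact add_mem hp hq
  | tmul a y =>
    rw [LinearMap.lTensor_tmul, cancel_tmul]
    exact Submodule.smul_mem _ _ (Submodule.subset_span ⟨_, y.2, rfl⟩)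

theorem mem_Krel_iff {x : R ⊗[C] Pm B M r} : x ∈ Krel C M b R ↔ ∀ n, (fn C M b n).baseChange R x = 0 := by
  simp only [fn_baseChange_eq_zero_iff]
  rfl

theorem proj_mem_iff (n : ℕ) (x : R ⊗[C] Pm B M r) :
    (proj C M n).baseChange R x ∈ Krel C M b R ↔ (fn C M b n).baseChange R x = 0 := by
  rw [proj_mem_Krel_iff, fn_baseChange_eq_zero_iff]

theorem theta_mem_Krel {x : R ⊗[C] Pm B M r} (hx : x ∈ Krel C M b R) : theta C R R' _ x ∈ Krel C M b R' := by
  rw [mem_Krel_iff] at hx ⊢
  intro n
  rw [← theta_baseChange, hx n, map_zero]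

/-- Base change of the relations in one degree. -/
theorem proj_mem_span_theta (n : ℕ) {x : R' ⊗[C] Pm B M r}
    (h : x ∈ Submodule.span R' (theta C R R' (Pm B M r) '' {y | (fn C M b n).baseChange R y = 0}))
    :
    (proj C M n).baseChange R' x ∈ Submodule.span R' (theta C R R' (Pm B M r) ''
      {y | y ∈ Krel C M b R ∧ (proj C M n).baseChange R y = y}) := by
  replace h := Submodule.mem_map_of_mem (f := (proj C M n).baseChange R') h
  rw [Submodule.map_span] at h
  refine Submodule.span_mono ?_ h
  rintro _ ⟨_, ⟨y, hy, rfl⟩, rfl⟩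
  refine ⟨(proj C M n).baseChange R y, ⟨(proj_mem_iff M b R n y).2 hy, ?_⟩, theta_baseChange C R R' _ _ y⟩
  clear hy
  induction y with
  | zero => simp
  | add p q hp hq => simp [map_add, hp, hq]
  | tmul a p => rw [LinearMap.baseChange_tmul, LinearMap.baseChange_tmul, proj_proj, if_pos rfl]

/-- Base change of the relations. -/
theorem Krel_le_span (h : KerBC C M b R R') {x : R' ⊗[C] Pm B M r} (hx : x ∈ Krel C M b R') :
    x ∈ Submodule.span R' (theta C R R' (Pm B M r) '' (Krel C M b R)) := by
  obtain ⟨N, -, hN⟩ := exists_bound_baseChange (C := C) M R' x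
  rw [← hN]
  refine Submodule.sum_mem _ fun n _ => ?_
  exact Submodule.span_mono (Set.image_mono fun y hy => hy.1)
    (proj_mem_span_theta M b R R' n (h n x ((mem_Krel_iff M b R').1 hx n)))

/-- The relations over a subring. -/
theorem mem_Krel_of_theta (hinj : Function.Injective (algebraMap R R')) {x : R ⊗[C] Pm B M r}
    (hx : theta C R R' _ x ∈ Krel C M b R') (n : ℕ) [Module.Flat R (R ⊗[C] Qm C M b (n + 1))] :
    (fn C M b n).baseChange R x = 0 := by
  apply theta_injective C R R' (Qm C M b (n + 1)) hinj
  rw [map_zero, theta_baseChange]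
  exact (mem_Krel_iff M b R').1 hx n

variable (C) in
/-- The associated graded module. -/
abbrev Gm : Type u := (R ⊗[C] Pm B M r) ⧸ Krel C M b R

variable (C) in
/-- One graded piece. -/
abbrev grm (n : ℕ) : Type u := (R ⊗[C] Pm B M r) ⧸ LinearMap.ker ((fn C M b n).baseChange R)

variable (C) in
/-- The projection to one piece. -/
noncomputable def toPiece (n : ℕ) : Gm C M b R →ₗ[R] grm C M b R n :=
  Submodule.liftQ ((Krel C M b R).restrictScalars R) (Submodule.mkQ _) (fun x hx => by
    rw [LinearMap.mem_ker, Submodule.mkQ_apply, Submodule.Quotient.mk_eq_zero, LinearMap.mem_ker]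
    exact (mem_Krel_iff M b R).1 hx n) ∘ₗ
  (Submodule.Quotient.restrictScalarsEquiv R (Krel C M b R)).symm.toLinearMap

variable (C) in
/-- The inclusion of one piece. -/
noncomputable def ofPiece (n : ℕ) : grm C M b R n →ₗ[R] Gm C M b R :=
  Submodule.liftQ _ ((Submodule.mkQ (Krel C M b R)).restrictScalars R ∘ₗ (proj C M n).baseChange R) fun x hx => by
    rw [LinearMap.mem_ker, LinearMap.comp_apply]
    exact (Submodule.Quotient.mk_eq_zero _).2 ((proj_mem_iff M b R n x).2 hx)

theorem toPiece_mk (n : ℕ) (x : R ⊗[C] Pm B M r) :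
    toPiece C M b R n (Submodule.Quotient.mk x) = Submodule.Quotient.mk x := rfl

theorem ofPiece_mk (n : ℕ) (x : R ⊗[C] Pm B M r) :
    ofPiece C M b R n (Submodule.Quotient.mk x) = Submodule.Quotient.mk ((proj C M n).baseChange R x) := rfl

theorem toPiece_ofPiece (n : ℕ) : (toPiece C M b R n).comp (ofPiece C M b R n) = LinearMap.id := by
  refine LinearMap.ext fun z => ?_
  obtain ⟨x, rfl⟩ := Submodule.Quotient.mk_surjective _ z
  rw [LinearMap.comp_apply, ofPiece_mk, toPiece_mk, LinearMap.id_apply, Submodule.Quotient.eq, LinearMap.mem_ker,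
    map_sub, sub_eq_zero]
  induction x with
  | zero => simp
  | add p q hp hq => simp [map_add, hp, hq]
  | tmul a p =>
    simp only [LinearMap.baseChange_tmul, fn, LinearMap.comp_apply, ev_proj, if_pos]

theorem flat_grm_of_qFlat (h : QFlat C M b R) (n : ℕ) : Module.Flat R (grm C M b R n) := by
  haveI := h n
  haveI := h (n + 1)
  exact flat_quot_ker _ _ (pn_baseChange_surjective M b R n) (exact_baseChange M b R n)

theorem qFlat_of_flat_grm (h : ∀ n, Module.Flat R (grm C M b R n)) : QFlat C M b R := by
  intro n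
  induction n with
  | zero => infer_instance
  | succ n ih =>
    haveI := h n
    exact flat_of_quot_ker ((fn C M b n).baseChange R) _ (pn_baseChange_surjective M b R n) (exact_baseChange M b R n)

theorem qFlat_of_flat_Gm [Module.Flat R (Gm C M b R)] : QFlat C M b R :=
  qFlat_of_flat_grm M b R fun n => Module.Flat.of_retract (ofPiece C M b R n) (toPiece C M b R n) (toPiece_ofPiece M b R n)

theorem flat_Gm_of_qFlat (h : QFlat C M b R) : Module.Flat R (Gm C M b R) := by
  classical
  rw [Module.Flat.iff_rTensor_preserves_injective_linearMap]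
  intro A A' _ _ _ _ i hi
  rw [injective_iff_map_eq_zero]
  intro z hz
  have hcomp : ∀ n, (toPiece C M b R n).lTensor A z = 0 := fun n => by
    haveI := flat_grm_of_qFlat M b R h n
    apply Module.Flat.rTensor_preserves_injective_linearMap (M := grm C M b R n) i hi
    rw [map_zero, ← LinearMap.comp_apply, LinearMap.rTensor_comp_lTensor, ← LinearMap.lTensor_comp_rTensor,
      LinearMap.comp_apply, hz, map_zero]
  obtain ⟨N, hN⟩ : ∃ N, ∀ N', N ≤ N' →
      ∑ n ∈ Finset.range N', (ofPiece C M b R n).lTensor A ((toPiece C M b R n).lTensor A z) = z := by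
    clear hcomp hz
    induction z with
    | zero => exact ⟨0, fun N' _ => by simp⟩
    | add p q hp hq =>
      obtain ⟨N, hp⟩ := hp
      obtain ⟨N', hq⟩ := hq
      exact ⟨max N N', fun N'' hN'' => by
        simp only [map_add, Finset.sum_add_distrib]
        rw [hp N'' (by omega), hq N'' (by omega)]⟩
    | tmul a g =>
      obtain ⟨x, rfl⟩ := Submodule.Quotient.mk_surjective _ g
      obtain ⟨N, h1, h2⟩ := exists_bound_baseChange (C := C) M R x
      refine ⟨N, fun N' hN' => ?_⟩
      simp only [LinearMap.lTensor_tmul, toPiece_mk, ofPiece_mk]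
      rw [← TensorProduct.tmul_sum]
      simp only [← Submodule.mkQ_apply]
      rw [← map_sum, ← Finset.sum_subset (Finset.range_mono hN') fun n _ hn => h1 n (by simpa using hn), h2]
  rw [← hN N le_rfl]
  exact Finset.sum_eq_zero fun n _ => by rw [hcomp n, map_zero]

/-- The associated graded module commutes with base change. -/
theorem exists_equiv_Gm
    (h : ∀ x ∈ Krel C M b R', x ∈ Submodule.span R' (theta C R R' (Pm B M r) '' (Krel C M b R))) :
    Nonempty (R' ⊗[R] Gm C M b R ≃ₗ[R'] Gm C M b R') := by
  let K₀ : Submodule R (R ⊗[C] Pm B M r) := (Krel C M b R).restrictScalars R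
  let e₀ := Submodule.Quotient.restrictScalarsEquiv R (Krel C M b R)
  let W : Submodule R' (R' ⊗[C] Pm B M r) := (Krel C M b R').restrictScalars R'
  let e₁ := Submodule.Quotient.restrictScalarsEquiv R' (Krel C M b R')
  let cc := AlgebraTensorModule.cancelBaseChange C R R' R' (Pm B M r)
  let q : R' ⊗[R] (R ⊗[C] Pm B M r) →ₗ[R'] R' ⊗[R] ((R ⊗[C] Pm B M r) ⧸ K₀) := K₀.mkQ.baseChange R'
  have hq : Function.Surjective q := LinearMap.lTensor_surjective R' K₀.mkQ_surjective
  let p : R' ⊗[R] (R ⊗[C] Pm B M r) →ₗ[R'] (R' ⊗[C] Pm B M r) ⧸ W := W.mkQ ∘ₗ cc.toLinearMap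
  have hp : Function.Surjective p := W.mkQ_surjective.comp cc.surjective
  have hker : LinearMap.ker q = LinearMap.ker p := by
    apply le_antisymm
    · intro t ht
      obtain ⟨s, rfl⟩ := (lTensor_exact (M := K₀) (f := K₀.subtype) (g := K₀.mkQ) R' (LinearMap.exact_subtype_mkQ K₀) K₀.mkQ_surjective t).1 ht
      clear ht
      rw [LinearMap.mem_ker]
      induction s with
      | zero => simp
      | add u v hu hv => rw [map_add, map_add, hu, hv, add_zero]
      | tmul a y =>
        rw [LinearMap.lTensor_tmul]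
        refine (Submodule.Quotient.mk_eq_zero _).2 ?_
        rw [LinearEquiv.coe_coe, cancel_tmul]
        exact W.smul_mem _ (theta_mem_Krel M b R R' y.2)
    · intro t ht
      have ht' : cc t ∈ Krel C M b R' := (Submodule.Quotient.mk_eq_zero _).1 ht
      have h2 := Submodule.mem_map_of_mem (f := cc.symm.toLinearMap) (h _ ht')
      rw [Submodule.map_span] at h2
      rw [LinearEquiv.coe_coe, LinearEquiv.symm_apply_apply] at h2
      refine (Submodule.span_le.2 ?_) h2
      rintro _ ⟨_, ⟨y, hy, rfl⟩, rfl⟩
      have e : cc.symm (theta C R R' _ y) = (1 : R') ⊗ₜ[R] y := by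
        apply cc.injective
        rw [LinearEquiv.apply_symm_apply, cancel_tmul, one_smul]
      show cc.symm (theta C R R' _ y) ∈ LinearMap.ker q
      rw [e, LinearMap.mem_ker, LinearMap.baseChange_tmul, Submodule.mkQ_apply]
      refine Eq.trans (congrArg (fun z => (1 : R') ⊗ₜ[R] z) ?_) (TensorProduct.tmul_zero _ _)
      exact (Submodule.Quotient.mk_eq_zero _).2 hy
  exact ⟨AlgebraTensorModule.congr (LinearEquiv.refl R' R') e₀.symm ≪≫ₗ
    (q.quotKerEquivOfSurjective hq).symm ≪≫ₗ Submodule.quotEquivOfEq _ _ hker ≪≫ₗ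
    p.quotKerEquivOfSurjective hp ≪≫ₗ e₁⟩

end GrothLib.FlatGr5
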