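import Groth.Agent.Lib.FlatGr5.Model
import Groth.Agent.Lib.FlatAdicTarget.Basic
import Groth.Agent.Lib.FibreFlat.OpenNoetherian
import Groth.Agent.Lib.FlatModel.Descent

/-! # Flatness along the ideal -/

set_option autoImplicit false
set_option linter.style.haveILetI false
universe u

open TensorProduct

namespace GrothLib.FlatGr5

section Graded

variable (A : Type u) {B : Type u} [CommRing A] [CommRing B] [Algebra A B]
  (M : Type u) [AddCommGroup M] [Module B M] [Module A M] [IsScalarTower A B M] {r : ℕ} (b : Fin r → B)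

theorem qFlat_of_flat_Qm (h : ∀ n, Module.Flat A (Qm A M b n)) : QFlat A M b A := fun n => by
  haveI := h n
  exact Module.Flat.of_linearEquiv (TensorProduct.lid A (Qm A M b n))

theorem flat_Qm_of_qFlat (h : QFlat A M b A) (n : ℕ) : Module.Flat A (Qm A M b n) := by
  haveI := h n
  exact Module.Flat.of_linearEquiv (TensorProduct.lid A (Qm A M b n)).symm

/-- The truncations are flat when the graded pieces are. -/
theorem flat_Qm_of_pieces (J : Ideal B) (hJ : Jb b = J)
    (hgr : ∀ k : ℕ, Module.Flat A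
      (↥(J ^ k • (⊤ : Submodule B M)) ⧸ Submodule.comap (J ^ k • (⊤ : Submodule B M)).subtype (J ^ (k + 1) • ⊤)))
    (n : ℕ) : Module.Flat A (Qm A M b n) := by
  subst hJ
  induction n with
  | zero =>
    haveI : Subsingleton (Qm A M b 0) := Submodule.Quotient.subsingleton_iff.2 (by simp)
    infer_instance
  | succ k ih =>
    haveI := hgr k
    let Fk : Submodule B M := Jb b ^ k • ⊤
    let Fk1 : Submodule B M := Jb b ^ (k + 1) • ⊤
    let g : (↥Fk ⧸ Submodule.comap Fk.subtype Fk1) →ₗ[B] M ⧸ Fk1 := Submodule.mapQ _ _ Fk.subtype le_rfl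
    let f : (M ⧸ Fk1) →ₗ[B] M ⧸ Fk := Submodule.mapQ _ _ LinearMap.id
      (fun _ h => Submodule.smul_mono_left (Ideal.pow_le_pow_right k.le_succ) h)
    haveI : Module.Flat A (M ⧸ Fk) :=
      Module.Flat.of_linearEquiv (Submodule.Quotient.restrictScalarsEquiv A Fk).symm
    have hg : Function.Injective g := by
      rw [injective_iff_map_eq_zero]
      intro z hz
      obtain ⟨x, rfl⟩ := Submodule.Quotient.mk_surjective _ z
      exact (Submodule.Quotient.mk_eq_zero _).2 ((Submodule.Quotient.mk_eq_zero Fk1).1 hz)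
    have hf : Function.Surjective f := fun y => by
      obtain ⟨m, rfl⟩ := Submodule.Quotient.mk_surjective _ y
      exact ⟨Submodule.Quotient.mk m, rfl⟩
    have hex : Function.Exact g f := fun y => by
      obtain ⟨m, rfl⟩ := Submodule.Quotient.mk_surjective _ y
      constructor
      · intro h
        exact ⟨Submodule.Quotient.mk ⟨m, (Submodule.Quotient.mk_eq_zero Fk).1 h⟩, rfl⟩
      · rintro ⟨x, hx⟩
        obtain ⟨⟨x, hxm⟩, rfl⟩ := Submodule.Quotient.mk_surjective _ x
        rw [← hx]
        exact (Submodule.Quotient.mk_eq_zero Fk).2 hxm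
    haveI : Module.Flat A (M ⧸ Fk1) :=
      flat_middle (g.restrictScalars A) (f.restrictScalars A) hg hf hex
    exact Module.Flat.of_linearEquiv (Submodule.Quotient.restrictScalarsEquiv A Fk1)

/-- In the Noetherian case flat truncations give flatness along the ideal. -/
theorem flat_localized_of_qFlat [IsNoetherianRing A] [IsNoetherianRing B] [Module.Finite B M]
    (h : QFlat A M b A) (p : Ideal B) [p.IsPrime] (hp : Jb b ≤ p) :
    Module.Flat A (LocalizedModule p.primeCompl M) := by
  let S := p.primeCompl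
  let O := Localization.AtPrime p
  let g := LocalizedModule.mkLinearMap S M
  let I : Ideal O := (Jb b).map (algebraMap B O)
  refine GrothLib.FlatAdicTarget.flat_of_forall_quotient_pow (A := A) (B := O) I ?_ fun n => ?_
  · rw [IsLocalRing.jacobson_eq_maximalIdeal ⊥ bot_ne_top, ← Localization.AtPrime.map_eq_maximalIdeal]
    exact Ideal.map_mono hp
  · let N : Submodule B M := Jb b ^ (n + 1) • ⊤
    haveI : Module.Flat A (M ⧸ N) := by
      haveI := flat_Qm_of_qFlat A M b h (n + 1)
      exact Module.Flat.of_linearEquiv (Submodule.Quotient.restrictScalarsEquiv A N).symm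
    have hN : N.localized' O S g = I ^ (n + 1) • ⊤ := by
      rw [Submodule.localized'_smul, Submodule.localized'_top, Submodule.localized'_eq_span, ← Ideal.map_pow]
      rfl
    haveI := GrothLib.FlatModel.flat_localizedModule (R := A) (M := M ⧸ N) S
    haveI : Module.Flat A (LocalizedModule S M ⧸ N.localized' O S g) :=
      Module.Flat.of_linearEquiv ((IsLocalizedModule.linearEquiv S (N.toLocalizedQuotient' O S g)
        (LocalizedModule.mkLinearMap S (M ⧸ N))).restrictScalars A)
    exact Module.Flat.of_linearEquiv ((Submodule.quotEquivOfEq _ _ hN).symm.restrictScalars A)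

end Graded

section Base

variable {C : Type u} [CommRing C] {B₀ : Type u} [CommRing B₀] [Algebra C B₀]
  (M₀ : Type u) [AddCommGroup M₀] [Module B₀ M₀] [Module C M₀] [IsScalarTower C B₀ M₀] {r : ℕ} (b₀ : Fin r → B₀)
  (S : Type u) [CommRing S] [Algebra C S]

attribute [local instance] Algebra.TensorProduct.rightAlgebra

local instance tower_base : IsScalarTower C B₀ (S ⊗[C] B₀) :=
  IsScalarTower.of_algebraMap_eq fun c => (Algebra.TensorProduct.includeRight.commutes c).symm

/-- The tautological model. -/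
theorem isModel_base : IsModel C B₀ S (S ⊗[C] B₀) (TensorProduct.mk C S M₀ 1) := by
  refine ⟨fun c m => ?_, ?_⟩
  · show (1 : S) ⊗ₜ[C] (c • m) = ((1 : S) ⊗ₜ[C] c) • ((1 : S) ⊗ₜ[C] m)
    rw [act_tmul, one_mul]
  · have e : (TensorProduct.mk C S M₀ 1).liftBaseChange S = LinearMap.id := by
      refine AlgebraTensorModule.ext fun a m => ?_
      rw [LinearMap.liftBaseChange_tmul, TensorProduct.mk_apply, TensorProduct.smul_tmul', smul_eq_mul, mul_one]
      rfl
    rw [e]
    exact Function.bijective_id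

variable [IsNoetherianRing C] [Algebra.FiniteType C B₀] [Module.Finite B₀ M₀]

/-- At a Noetherian stage the module is flat along the ideal. -/
theorem flat_localized_stage [IsNoetherianRing S] (h : QFlat C M₀ b₀ S) (p : Ideal (S ⊗[C] B₀)) [p.IsPrime]
    (hp : ∀ i, (1 : S) ⊗ₜ[C] b₀ i ∈ p) : Module.Flat S (LocalizedModule p.primeCompl (S ⊗[C] M₀)) := by
  haveI : IsNoetherianRing (S ⊗[C] B₀) := Algebra.FiniteType.isNoetherianRing S _
  have hmod : IsModel C B₀ S (S ⊗[C] B₀) (TensorProduct.mk C S M₀ 1) := isModel_base M₀ S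
  refine flat_localized_of_qFlat S (S ⊗[C] M₀) (bmap (B := S ⊗[C] B₀) b₀) (qFlat_of_flat_Qm S _ _ fun n => ?_) p ?_
  · haveI := h n
    obtain ⟨e⟩ := exists_equiv_Qm b₀ hmod n
    exact Module.Flat.of_linearEquiv e.symm
  · rw [Ideal.span_le]
    rintro _ ⟨i, rfl⟩
    exact hp i

end Base

/-- A map out of a finitely generated subalgebra to a stage of a directed system. -/
theorem exists_algHom_stage {C : Type u} [CommRing C] [IsNoetherianRing C] {A : Type u} [CommRing A] [Algebra C A]
    (S : Subalgebra C A) (hS : S.FG) {ι : Type u} [Preorder ι] (G : ι → Type u) [∀ i, CommRing (G i)]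
    [∀ i, Algebra C (G i)] [∀ i, Algebra (G i) A] [∀ i, IsScalarTower C (G i) A]
    (g : ∀ i j, i ≤ j → G i →ₐ[C] G j)
    (hdir : IsDirected ι (· ≤ ·)) (hne : Nonempty ι)
    (hcomp : ∀ i j (h : i ≤ j) x, algebraMap (G j) A (g i j h x) = algebraMap (G i) A x)
    (hsurj : ∀ a : A, ∃ i, ∃ x : G i, algebraMap (G i) A x = a)
    (hzero : ∀ i (x : G i), algebraMap (G i) A x = 0 → ∃ j, ∃ h : i ≤ j, g i j h x = 0)
    (htrans : ∀ i j k (hij : i ≤ j) (hjk : j ≤ k) x, g j k hjk (g i j hij x) = g i k (hij.trans hjk) x) :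
    ∃ (i : ι) (ψ : S →ₐ[C] G i), ∀ s, algebraMap (G i) A (ψ s) = s := by
  classical
  haveI := hdir
  haveI := hne
  haveI : Algebra.FiniteType C S := (Subalgebra.fg_iff_finiteType _).1 hS
  haveI : Algebra.FinitePresentation C S := Algebra.FinitePresentation.of_finiteType.mp ‹_›
  obtain ⟨n, π, hπ, hker⟩ := ‹Algebra.FinitePresentation C S›.out
  choose i x hx using fun k : Fin n => hsurj (π (MvPolynomial.X k))
  obtain ⟨j, hj⟩ := Finset.exists_le (Finset.univ.image i)
  let ev₁ : MvPolynomial (Fin n) C →ₐ[C] G j :=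
    MvPolynomial.aeval fun k => g (i k) j (hj _ (Finset.mem_image_of_mem i (Finset.mem_univ k))) (x k)
  have hev : ∀ p, algebraMap (G j) A (ev₁ p) = (π p : A) := fun p => by
    have : (IsScalarTower.toAlgHom C (G j) A).comp ev₁ = (S.val).comp π :=
      MvPolynomial.algHom_ext fun k => by simp [ev₁, hcomp, hx]
    exact AlgHom.congr_fun this p
  obtain ⟨s, hs⟩ := hker
  have hz : ∀ p ∈ s, ∃ k, ∃ h : j ≤ k, g j k h (ev₁ p) = 0 := fun p hp => hzero j _ (by
    rw [hev]
    have hp0 : π p = 0 := (hs ▸ Ideal.subset_span hp : p ∈ RingHom.ker π.toRingHom)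
    rw [hp0]; rfl)
  choose! kk hk hk0 using hz
  obtain ⟨l, hl⟩ := Finset.exists_le (insert j (s.image kk))
  have hjl : j ≤ l := hl _ (Finset.mem_insert_self _ _)
  let ev₂ := (g j l hjl).comp ev₁
  have hkill : ∀ p ∈ RingHom.ker π, ev₂ p = 0 := by
    intro p hp
    have hp' : p ∈ RingHom.ker π.toRingHom := hp
    rw [← hs] at hp'
    refine (Submodule.span_le (p := RingHom.ker ev₂)).2 (fun q hq => ?_) hp'
    rw [SetLike.mem_coe, RingHom.mem_ker]
    show g j l hjl (ev₁ q) = 0
    rw [← htrans j (kk q) l (hk q hq) (hl _ (Finset.mem_insert_of_mem (Finset.mem_image_of_mem kk hq))), hk0 q hq,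
      map_zero]
  let ψ : S →ₐ[C] G l :=
    (Ideal.Quotient.liftₐ (RingHom.ker π) ev₂ hkill).comp (Ideal.quotientKerAlgEquivOfSurjective hπ).symm.toAlgHom
  refine ⟨l, ψ, fun t => ?_⟩
  obtain ⟨p, rfl⟩ := hπ t
  have e : ψ (π p) = ev₂ p := by
    show Ideal.Quotient.liftₐ (RingHom.ker π) ev₂ hkill ((Ideal.quotientKerAlgEquivOfSurjective hπ).symm (π p)) = _
    rw [show (Ideal.quotientKerAlgEquivOfSurjective hπ).symm (π p) = Ideal.Quotient.mk _ p from
      (Ideal.quotientKerAlgEquivOfSurjective hπ).injective (by simp)]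
    simp
  rw [e]
  show algebraMap (G l) A (g j l hjl (ev₁ p)) = _
  rw [hcomp, hev]

end GrothLib.FlatGr5
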