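import Groth.Agent.Lib.FlatGr5.BC
import Groth.Agent.Lib.FlatLimit.Global
import Groth.Agent.Lib.GenFree.Presentation

/-! # The relations are finitely generated when the truncations are flat -/

set_option autoImplicit false
set_option linter.style.haveILetI false
universe u

open TensorProduct

namespace GrothLib.FlatGr5

variable {C : Type u} [CommRing C] {B : Type u} [CommRing B] [Algebra C B]
variable (M : Type u) [AddCommGroup M] [Module B M] [Module C M] [IsScalarTower C B M]
variable {r : ℕ} (b : Fin r → B)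

section Maps

variable (R R' : Type u) [CommRing R] [Algebra C R] [CommRing R'] [Algebra C R'] [Algebra R R'] [IsScalarTower C R R']

theorem theta_act (τ : R ⊗[C] Tb B r) (x : R ⊗[C] Pm B M r) :
    theta C R R' (Pm B M r) (τ • x) =
      Algebra.TensorProduct.map (IsScalarTower.toAlgHom C R R') (AlgHom.id C (Tb B r)) τ • theta C R R' (Pm B M r) x := by
  induction τ with
  | zero =>
    have h1 : (0 : R ⊗[C] Tb B r) • x = 0 := zero_smul (R ⊗[C] Tb B r) x
    rw [map_zero]
    refine (congrArg _ h1).trans ((map_zero _).trans ?_)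
    exact (zero_smul (R' ⊗[C] Tb B r) (theta C R R' (Pm B M r) x)).symm
  | add a c ha hc => rw [add_smul, map_add, map_add, add_smul, ha, hc]
  | tmul a t =>
    rw [Algebra.TensorProduct.map_tmul, AlgHom.id_apply]
    induction x with
    | zero => simp
    | add p q hp hq => rw [smul_add, map_add, map_add, smul_add, hp, hq]
    | tmul a' p => rw [act_tmul, theta_tmul, theta_tmul, act_tmul, map_mul]; rfl

theorem theta_mem_span {H : Set (R ⊗[C] Pm B M r)} {x : R ⊗[C] Pm B M r}
    (hx : x ∈ Submodule.span (R ⊗[C] Tb B r) H) :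
    theta C R R' _ x ∈ Submodule.span (R' ⊗[C] Tb B r) (theta C R R' _ '' H) := by
  induction hx using Submodule.span_induction with
  | mem y hy => exact Submodule.subset_span ⟨y, hy, rfl⟩
  | zero => rw [map_zero]; exact zero_mem _
  | add y z _ _ hy hz => rw [map_add]; exact add_mem hy hz
  | smul τ y _ hy => rw [theta_act]; exact Submodule.smul_mem _ _ hy

theorem mem_span_of_mem_restrict {s : Set (R ⊗[C] Pm B M r)} {x : R ⊗[C] Pm B M r}
    (hx : x ∈ Submodule.span R s) : x ∈ Submodule.span (R ⊗[C] Tb B r) s :=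
  Submodule.span_le_restrictScalars R (R ⊗[C] Tb B r) s hx

/-- The span of the image of a submodule is already stable. -/
theorem mem_span_base_of_mem_span (W : Submodule (R ⊗[C] Tb B r) (R ⊗[C] Pm B M r)) {x : R' ⊗[C] Pm B M r}
    (hx : x ∈ Submodule.span (R' ⊗[C] Tb B r) (theta C R R' _ '' (W : Set (R ⊗[C] Pm B M r)))) :
    x ∈ Submodule.span R' (theta C R R' _ '' (W : Set (R ⊗[C] Pm B M r))) := by
  induction hx using Submodule.span_induction with
  | mem y hy => exact Submodule.subset_span hy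
  | zero => exact zero_mem _
  | add y z _ _ hy hz => exact add_mem hy hz
  | smul τ y hy0 hy =>
    clear hy0
    induction τ with
    | zero =>
      convert zero_mem (Submodule.span R' (theta C R R' _ '' (W : Set (R ⊗[C] Pm B M r)))) using 1
      exact zero_smul (R' ⊗[C] Tb B r) y
    | add a c ha hc => rw [add_smul]; exact add_mem ha hc
    | tmul a t =>
      rw [tmul_smul_eq]
      refine Submodule.smul_mem _ _ ?_
      induction hy using Submodule.span_induction with
      | mem z hz =>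
        obtain ⟨w, hw, rfl⟩ := hz
        refine Submodule.subset_span ⟨((1 : R) ⊗ₜ[C] t) • w, W.smul_mem _ hw, ?_⟩
        rw [theta_act, Algebra.TensorProduct.map_tmul, AlgHom.id_apply, map_one]
      | zero => rw [smul_zero]; exact zero_mem _
      | add z w _ _ hz hw => rw [smul_add]; exact add_mem hz hw
      | smul c z _ hz =>
        rw [← act_algebraMap R' (Tb B r) (Pm B M r) c, ← mul_smul, mul_comm, mul_smul, act_algebraMap]
        exact Submodule.smul_mem _ _ hz

theorem fg_baseChange (h : KerBC C M b R R') (hfg : (Krel C M b R).FG) : (Krel C M b R').FG := by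
  classical
  obtain ⟨H, hH⟩ := hfg
  refine ⟨H.image (theta C R R' _), le_antisymm (Submodule.span_le.2 ?_) fun x hx => ?_⟩
  · rw [Finset.coe_image]
    rintro _ ⟨y, hy, rfl⟩
    exact theta_mem_Krel M b R R' (hH ▸ Submodule.subset_span hy)
  · rw [Finset.coe_image]
    refine (Submodule.span_le.2 ?_) (mem_span_of_mem_restrict M R' (Krel_le_span M b R R' h hx))
    rintro _ ⟨y, hy, rfl⟩
    exact theta_mem_span M R R' (hH.symm ▸ hy : y ∈ Submodule.span _ (H : Set _))

theorem qFlat_baseChange (h : QFlat C M b R) : QFlat C M b R' := fun n => by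
  haveI := h n
  exact Module.Flat.of_linearEquiv (AlgebraTensorModule.cancelBaseChange C R R' R' (Qm C M b n)).symm

end Maps

variable (R : Type u) [CommRing R] [Algebra C R]

theorem exists_homogeneous_gens (h : (Krel C M b R).FG) :
    ∃ H : Finset (R ⊗[C] Pm B M r), (∀ y ∈ H, y ∈ Krel C M b R ∧ ∃ d, (proj C M d).baseChange R y = y) ∧
      Krel C M b R = Submodule.span (R ⊗[C] Tb B r) H := by
  classical
  obtain ⟨S, hS⟩ := h
  choose N hN1 hN2 using fun y : R ⊗[C] Pm B M r => exists_bound_baseChange (C := C) M R y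
  let H := S.biUnion fun y => (Finset.range (N y)).image fun n => (proj C M n).baseChange R y
  have hH : ∀ z ∈ H, z ∈ Krel C M b R ∧ ∃ d, (proj C M d).baseChange R z = z := by
    intro z hz
    obtain ⟨y, hy, hz⟩ := Finset.mem_biUnion.1 hz
    obtain ⟨n, -, rfl⟩ := Finset.mem_image.1 hz
    refine ⟨proj_mem_Krel M b R (hS ▸ Submodule.subset_span hy) n, n, ?_⟩
    generalize y = w
    induction w with
    | zero => simp
    | add p q hp hq => simp [map_add, hp, hq]
    | tmul a p => rw [LinearMap.baseChange_tmul, LinearMap.baseChange_tmul, proj_proj, if_pos rfl]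
  refine ⟨H, hH, le_antisymm ?_ (Submodule.span_le.2 fun z hz => (hH z hz).1)⟩
  rw [← hS, Submodule.span_le]
  intro y hy
  rw [← hN2 y]
  exact Submodule.sum_mem _ fun n hn => Submodule.subset_span (Finset.mem_coe.2
    (Finset.mem_biUnion.2 ⟨y, hy, Finset.mem_image_of_mem _ hn⟩))

theorem fg_of_noetherian [IsNoetherianRing R] [Algebra.FiniteType C B] [Module.Finite B M] :
    (Krel C M b R).FG := by
  haveI : Algebra.FiniteType B (Tb B r) := inferInstance
  haveI : Algebra.FiniteType C (Tb B r) := Algebra.FiniteType.trans (S := B) ‹_› inferInstance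
  haveI : IsNoetherianRing (R ⊗[C] Tb B r) := Algebra.FiniteType.isNoetherianRing R _
  exact IsNoetherian.noetherian _

theorem exists_stage_mem {X : Type u} [AddCommGroup X] [Module C X] (s : Finset (R ⊗[C] X)) :
    ∃ S : Subalgebra C R, S.FG ∧ ∀ x ∈ s, x ∈ Set.range (theta C S R X) := by
  classical
  choose T hT using fun x : R ⊗[C] X => TensorProduct.exists_finset x
  let E : Finset R := s.biUnion fun x => (T x).image Prod.fst
  refine ⟨Algebra.adjoin C (E : Set R), Subalgebra.fg_adjoin_finset E, fun x hx => ?_⟩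
  refine ⟨∑ p ∈ (T x).attach, (⟨p.1.1, Algebra.subset_adjoin (Finset.mem_coe.2 (Finset.mem_biUnion.2
    ⟨x, hx, Finset.mem_image_of_mem _ p.2⟩))⟩ : Algebra.adjoin C (E : Set R)) ⊗ₜ[C] p.1.2, ?_⟩
  rw [map_sum]
  simp only [theta_tmul]
  conv_rhs => rw [hT x, ← Finset.sum_attach (T x)]
  rfl

theorem flat_mono {S S' : Subalgebra C R} (hle : S ≤ S') {X : Type u} [AddCommGroup X] [Module C X]
    [Module.Flat S (S ⊗[C] X)] : Module.Flat S' (S' ⊗[C] X) := by
  letI : Algebra S S' := (Subalgebra.inclusion hle).toRingHom.toAlgebra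
  haveI : IsScalarTower C S S' := IsScalarTower.of_algebraMap_eq fun _ => rfl
  exact Module.Flat.of_linearEquiv (AlgebraTensorModule.cancelBaseChange C S S' S' X).symm

variable [IsNoetherianRing C] [Algebra.FiniteType C B] [Module.Finite B M]

theorem exists_stage_qflat_one (n : ℕ) [Module.Flat R (R ⊗[C] Qm C M b n)] :
    ∃ S : Subalgebra C R, S.FG ∧ Module.Flat S (S ⊗[C] Qm C M b n) := by
  haveI : IsNoetherianRing B := Algebra.FiniteType.isNoetherianRing C B
  haveI : Algebra.FinitePresentation C B := Algebra.FinitePresentation.of_finiteType.mp ‹_›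
  let N : Submodule B M := Jb b ^ n • ⊤
  let e : Qm C M b n ≃ₗ[C] M ⧸ N := Submodule.Quotient.restrictScalarsEquiv C N
  haveI : Module.FinitePresentation B (M ⧸ N) := Module.finitePresentation_of_finite B (M ⧸ N)
  haveI : Module.Flat R (R ⊗[C] (M ⧸ N)) :=
    Module.Flat.of_linearEquiv (AlgebraTensorModule.congr (LinearEquiv.refl R R) e).symm
  let ι := {T : Subalgebra C R // T.FG}
  obtain ⟨⟨T, hT⟩, hflat⟩ := GrothLib.FlatLimit.exists_stage_flat (A₀ := C) (A := R)
    (fun T : ι => (T.1 : Type u))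
    (fun i i' => ⟨⟨i.1 ⊔ i'.1, i.2.sup i'.2⟩, Subalgebra.inclusion le_sup_left,
      Subalgebra.inclusion le_sup_right, fun _ => rfl, fun _ => rfl⟩)
    (fun F => ⟨⟨Algebra.adjoin C (F : Set R), Subalgebra.fg_adjoin_finset F⟩,
      fun a ha => ⟨⟨a, Algebra.subset_adjoin ha⟩, rfl⟩⟩)
    (fun i p hp => ⟨i, AlgHom.id C _, fun _ => rfl, fun x hx => Subtype.ext (hp x hx)⟩)
    B (M ⧸ N)
  exact ⟨T, hT, Module.Flat.of_linearEquiv (AlgebraTensorModule.congr (LinearEquiv.refl (T : Type u) (T : Type u)) e)⟩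

theorem exists_stage_qflat (s : Finset ℕ) (S₀ : Subalgebra C R) (hS₀ : S₀.FG) (h : QFlat C M b R) :
    ∃ S : Subalgebra C R, S₀ ≤ S ∧ S.FG ∧ ∀ n ∈ s, Module.Flat S (S ⊗[C] Qm C M b n) := by
  classical
  induction s using Finset.induction with
  | empty => exact ⟨S₀, le_rfl, hS₀, fun n hn => absurd hn (Finset.notMem_empty n)⟩
  | @insert k s _ ih =>
    obtain ⟨S, hle, hfg, hS⟩ := ih
    haveI := h k
    obtain ⟨T, hT, hTf⟩ := exists_stage_qflat_one (C := C) M b R k
    refine ⟨S ⊔ T, hle.trans le_sup_left, hfg.sup hT, fun n hn => ?_⟩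
    rcases Finset.mem_insert.1 hn with rfl | hn
    · exact flat_mono R (le_sup_right : T ≤ S ⊔ T)
    · haveI := hS n hn
      exact flat_mono R (le_sup_left : S ≤ S ⊔ T)

/-- The degree `n` part of the relations is finitely generated: a uniform power of `g` pushes it into `W`. -/
theorem exists_pow_smul_proj_mem (h : QFlat C M b R) (n : ℕ) (g : R)
    (W : Submodule (R ⊗[C] Tb B r) (R ⊗[C] Pm B M r))
    (hW : ∀ y ∈ Krel C M b R, ∃ e : ℕ, g ^ e • y ∈ W) :
    ∃ e : ℕ, ∀ y ∈ Krel C M b R, g ^ e • (proj C M n).baseChange R y ∈ W := by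
  classical
  obtain ⟨S, -, hS, hSf⟩ := exists_stage_qflat M b R {n, n + 1} ⊥ Subalgebra.fg_bot h
  haveI : IsNoetherianRing S := isNoetherianRing_of_fg hS
  haveI := hSf n (by simp)
  haveI : Algebra.FiniteType C (Tb B r) := Algebra.FiniteType.trans (S := B) ‹_› inferInstance
  haveI : IsNoetherianRing (S ⊗[C] Tb B r) := Algebra.FiniteType.isNoetherianRing S _
  let D : Set (S ⊗[C] Pm B M r) := {y | y ∈ Krel C M b S ∧ (proj C M n).baseChange S y = y}
  obtain ⟨T, hTD, hT⟩ := (Submodule.fg_span_iff_fg_span_finset_subset D).1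
    (IsNoetherian.noetherian (Submodule.span (S ⊗[C] Tb B r) D))
  choose! e he using fun y (hy : y ∈ (T : Set (S ⊗[C] Pm B M r))) =>
    hW _ (theta_mem_Krel M b S R (hTD hy).1)
  refine ⟨T.sup e, fun y hy => ?_⟩
  let W' : Submodule (R ⊗[C] Tb B r) (R ⊗[C] Pm B M r) :=
    { carrier := {z | g ^ T.sup e • z ∈ W}
      add_mem' := fun {a c} ha hc => by show g ^ T.sup e • (a + c) ∈ W; rw [smul_add]; exact add_mem ha hc
      zero_mem' := by show g ^ T.sup e • (0 : R ⊗[C] Pm B M r) ∈ W; rw [smul_zero]; exact zero_mem _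
      smul_mem' := fun τ z hz => by
        show g ^ T.sup e • τ • z ∈ W
        rw [← act_algebraMap R (Tb B r) (Pm B M r) (g ^ T.sup e), ← mul_smul, mul_comm, mul_smul, act_algebraMap]
        exact W.smul_mem _ hz }
  have hgen : theta C S R _ '' (T : Set (S ⊗[C] Pm B M r)) ⊆ W' := by
    rintro _ ⟨z, hz, rfl⟩
    show g ^ T.sup e • theta C S R _ z ∈ W
    rw [← Nat.sub_add_cancel (Finset.le_sup (f := e) hz), pow_add, mul_smul]
    exact W.smul_of_tower_mem _ (he z hz)
  have h1 := proj_mem_span_theta M b S R n (ker_le_span M b S R n y ((mem_Krel_iff M b R).1 hy n))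
  show (proj C M n).baseChange R y ∈ W'
  refine (Submodule.span_le.2 ?_) (mem_span_of_mem_restrict M R h1)
  rintro _ ⟨z, hz, rfl⟩
  refine (Submodule.span_le.2 hgen) (theta_mem_span M S R ?_)
  rw [← hT]
  exact Submodule.subset_span hz

omit [IsNoetherianRing C] [Algebra.FiniteType C B] [Module.Finite B M] in
/-- A flat quotient has no new relations. -/
theorem exists_smul_eq_of_flat {X : Type u} [AddCommGroup X] [Module R X] (K : Submodule R X)
    [Module.Flat R (X ⧸ K)] (a : R) (x : X) (hx : a • x ∈ K) : ∃ y ∈ K, a • x = a • y := by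
  have h0 : ∑ _i : Fin 1, a • (Submodule.Quotient.mk x : X ⧸ K) = 0 := by
    simp [← Submodule.Quotient.mk_smul, (Submodule.Quotient.mk_eq_zero K).2 hx]
  obtain ⟨k, c, z, hz, hc⟩ := Module.Flat.isTrivialRelation_of_sum_smul_eq_zero h0
  choose w hw using fun j => Submodule.Quotient.mk_surjective K (z j)
  refine ⟨x - ∑ j, c 0 j • w j, ?_, ?_⟩
  · rw [← Submodule.Quotient.mk_eq_zero, Submodule.Quotient.mk_sub, show (Submodule.Quotient.mk x : X ⧸ K) = _ from hz 0,
      sub_eq_zero]
    simp only [← Submodule.mkQ_apply, map_sum, map_smul]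
    exact Finset.sum_congr rfl fun j _ => by rw [Submodule.mkQ_apply, hw]
  · rw [smul_sub, Finset.smul_sum, Finset.sum_eq_zero fun j _ => ?_, sub_zero]
    have := hc j
    rw [Fin.sum_univ_one] at this
    rw [smul_smul, this, zero_smul]

omit [IsNoetherianRing C] [Algebra.FiniteType C B] [Module.Finite B M] in
/-- Lifting generators along `R → R ⧸ (a)`. -/
theorem exists_lift_gens (h : QFlat C M b R) (a : R) (hfg : (Krel C M b (R ⧸ Ideal.span {a})).FG) :
    ∃ H : Finset (R ⊗[C] Pm B M r), (∀ y ∈ H, y ∈ Krel C M b R ∧ ∃ d, (proj C M d).baseChange R y = y) ∧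
      ∀ x ∈ Krel C M b R, ∃ w ∈ Submodule.span (R ⊗[C] Tb B r) (H : Set (R ⊗[C] Pm B M r)),
        ∃ y ∈ Krel C M b R, x = w + a • y := by
  classical
  let R' := R ⧸ Ideal.span {a}
  let θ := theta C R R' (Pm B M r)
  have hsurj : ∀ z ∈ Krel C M b R', ∃ y ∈ Krel C M b R, θ y = z := fun z hz => by
    have h1 := Krel_le_span M b R R' (kerBC_of_qFlat M b R R' h) hz
    induction h1 using Submodule.span_induction with
    | mem w hw => obtain ⟨y, hy, rfl⟩ := hw; exact ⟨y, hy, rfl⟩
    | zero => exact ⟨0, zero_mem _, map_zero _⟩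
    | add p q hp' hq' hp hq =>
      obtain ⟨y, hy, hy'⟩ := hp ((Submodule.span_le (p := (Krel C M b R').restrictScalars R')).2
        (by rintro _ ⟨w, hw, rfl⟩; exact theta_mem_Krel M b R R' hw) hp')
      obtain ⟨y', hy2, hy2'⟩ := hq ((Submodule.span_le (p := (Krel C M b R').restrictScalars R')).2
        (by rintro _ ⟨w, hw, rfl⟩; exact theta_mem_Krel M b R R' hw) hq')
      exact ⟨y + y', add_mem hy hy2, by rw [map_add, hy', hy2']⟩
    | smul c p hp' hp =>
      obtain ⟨y, hy, hy'⟩ := hp ((Submodule.span_le (p := (Krel C M b R').restrictScalars R')).2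
        (by rintro _ ⟨w, hw, rfl⟩; exact theta_mem_Krel M b R R' hw) hp')
      obtain ⟨c₀, rfl⟩ := Ideal.Quotient.mk_surjective c
      exact ⟨c₀ • y, Submodule.smul_of_tower_mem _ _ hy, by
        show θ (c₀ • y) = _
        rw [theta_smul, hy']; rfl⟩
  obtain ⟨S, hS⟩ := hfg
  choose! l hl hl' using hsurj
  let S₁ := S.image l
  choose N hN1 hN2 using fun y : R ⊗[C] Pm B M r => exists_bound_baseChange (C := C) M R y
  let H := S₁.biUnion fun y => (Finset.range (N y)).image fun n => (proj C M n).baseChange R y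
  refine ⟨H, fun z hz => ?_, fun x hx => ?_⟩
  · obtain ⟨y, hy, hz⟩ := Finset.mem_biUnion.1 hz
    obtain ⟨n, -, rfl⟩ := Finset.mem_image.1 hz
    obtain ⟨s, hs, rfl⟩ := Finset.mem_image.1 hy
    refine ⟨proj_mem_Krel M b R (hl s (hS ▸ Submodule.subset_span hs)) n, n, ?_⟩
    generalize l s = w
    induction w with
    | zero => simp
    | add p q hp hq => simp [map_add, hp, hq]
    | tmul c p => rw [LinearMap.baseChange_tmul, LinearMap.baseChange_tmul, proj_proj, if_pos rfl]
  let W := Submodule.span (R ⊗[C] Tb B r) (H : Set (R ⊗[C] Pm B M r))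
  have hmem : ∀ z ∈ Krel C M b R', ∃ w ∈ W, w ∈ Krel C M b R ∧ θ w = z := by
    intro z hz
    rw [← hS] at hz
    induction hz using Submodule.span_induction with
    | mem s hs =>
      refine ⟨l s, ?_, hl s (hS ▸ Submodule.subset_span hs), hl' s (hS ▸ Submodule.subset_span hs)⟩
      rw [← hN2 (l s)]
      exact Submodule.sum_mem _ fun n hn => Submodule.subset_span (Finset.mem_coe.2
        (Finset.mem_biUnion.2 ⟨l s, Finset.mem_image_of_mem _ hs, Finset.mem_image_of_mem _ hn⟩))
    | zero => exact ⟨0, zero_mem _, zero_mem _, map_zero _⟩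
    | add p q _ _ hp hq =>
      obtain ⟨w, h1, h2, h3⟩ := hp
      obtain ⟨w', h1', h2', h3'⟩ := hq
      exact ⟨w + w', add_mem h1 h1', add_mem h2 h2', by rw [map_add, h3, h3']⟩
    | smul τ p _ hp =>
      obtain ⟨w, h1, h2, h3⟩ := hp
      obtain ⟨τ₀, rfl⟩ : ∃ τ₀, Algebra.TensorProduct.map (IsScalarTower.toAlgHom C R R') (AlgHom.id C (Tb B r)) τ₀ = τ :=
        LinearMap.rTensor_surjective (Tb B r) (g := (IsScalarTower.toAlgHom C R R').toLinearMap)
          Ideal.Quotient.mk_surjective τ
      refine ⟨τ₀ • w, W.smul_mem _ h1, (Krel C M b R).smul_mem _ h2, ?_⟩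
      show θ (τ₀ • w) = _
      rw [theta_act, h3]
  obtain ⟨w, hwW, hwK, hw⟩ := hmem _ (theta_mem_Krel M b R R' hx)
  have h0 : θ (x - w) = 0 := by rw [map_sub, hw, sub_self]
  have hker : ∀ u : R ⊗[C] Pm B M r, θ u = 0 → ∃ v, u = a • v := by
    intro u hu
    let f : R →ₗ[C] R := LinearMap.mulLeft C a
    have hex : Function.Exact f (IsScalarTower.toAlgHom C R R').toLinearMap := fun c => by
      show Ideal.Quotient.mk (Ideal.span {a}) c = 0 ↔ _
      rw [Ideal.Quotient.eq_zero_iff_mem, Ideal.mem_span_singleton']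
      exact ⟨fun ⟨d, hd⟩ => ⟨d, by show a * d = c; rw [mul_comm]; exact hd⟩,
        fun ⟨d, hd⟩ => ⟨d, by rw [mul_comm]; exact hd⟩⟩
    obtain ⟨v, rfl⟩ := (rTensor_exact (Pm B M r) hex Ideal.Quotient.mk_surjective u).1 hu
    refine ⟨v, ?_⟩
    clear hu
    induction v with
    | zero => simp
    | add p q hp hq => rw [map_add, hp, hq, smul_add]
    | tmul c p => rw [LinearMap.rTensor_tmul, TensorProduct.smul_tmul']; rfl
  obtain ⟨v, hv⟩ := hker _ h0
  haveI := flat_Gm_of_qFlat M b R h
  haveI : Module.Flat R ((R ⊗[C] Pm B M r) ⧸ (Krel C M b R).restrictScalars R) :=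
    Module.Flat.of_linearEquiv (Submodule.Quotient.restrictScalarsEquiv R (Krel C M b R))
  obtain ⟨y, hy, hy'⟩ := exists_smul_eq_of_flat R ((Krel C M b R).restrictScalars R) a v
    (show a • v ∈ Krel C M b R from hv ▸ sub_mem hx hwK)
  exact ⟨w, hwW, y, hy, by rw [← hy', ← hv]; abel⟩

/-- Generic freeness of the associated graded module over a Noetherian domain. -/
theorem exists_flat_away [IsNoetherianRing R] [IsDomain R] :
    ∃ g : R, g ≠ 0 ∧ QFlat C M b (Localization.Away g) := by
  haveI : Algebra.FiniteType C (Tb B r) := Algebra.FiniteType.trans (S := B) ‹_› inferInstance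
  obtain ⟨g, -, hg, hfree, -, -, -⟩ :=
    GenFree.exists_free_and_finitePresentation (R := R) (R ⊗[C] Tb B r) (Gm C M b R) 1 one_ne_zero
  refine ⟨g, hg, ?_⟩
  let R' := Localization.Away g
  haveI := hfree
  haveI : Module.Flat R R' := IsLocalization.flat R' (Submonoid.powers g)
  obtain ⟨e⟩ := exists_equiv_Gm (C := C) M b R R' fun x hx => Krel_le_span M b R R' (kerBC_of_flat M b R R') hx
  haveI : Module.Flat R' (Gm C M b R') := Module.Flat.of_linearEquiv e.symm
  exact qFlat_of_flat_Gm M b R'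

/-- **The relations are finitely generated.** -/
theorem fg_Krel (h : QFlat C M b R) : (Krel C M b R).FG := by
  classical
  suffices key : ∀ (𝔞 : Ideal C) (R : Type u) [CommRing R] [Algebra C R], QFlat C M b R →
      𝔞.map (algebraMap C R) = ⊥ → (Krel C M b R).FG from key ⊥ R h Ideal.map_bot
  intro 𝔞
  induction 𝔞 using WellFoundedGT.induction with
  | _ 𝔞 ih =>
  intro R _ _ h h𝔞
  have quot : ∀ c : C, c ∉ 𝔞 → (Krel C M b (R ⧸ Ideal.span {algebraMap C R c})).FG := fun c hc => by
    refine ih (𝔞 ⊔ Ideal.span {c}) (left_lt_sup.2 fun hle => hc (hle (Ideal.mem_span_singleton_self c))) _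
      (qFlat_baseChange M b R _ h) ?_
    rw [IsScalarTower.algebraMap_eq C R (R ⧸ _), ← Ideal.map_map, Ideal.map_sup, h𝔞, bot_sup_eq,
      Ideal.map_span, Set.image_singleton, Ideal.Quotient.algebraMap_eq, Ideal.map_quotient_self]
  by_cases htop : 𝔞 = ⊤
  · rw [htop, Ideal.map_top] at h𝔞
    haveI : Subsingleton R := subsingleton_iff_zero_eq_one.1
      (Ideal.mem_bot.1 (h𝔞 ▸ Submodule.mem_top : (1 : R) ∈ (⊥ : Ideal R))).symm
    haveI : Subsingleton (R ⊗[C] Pm B M r) := by
      have := Module.subsingleton R (R ⊗[C] Pm B M r)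
      exact this
    exact ⟨∅, by ext x; simp [Subsingleton.elim x 0]⟩
  by_cases hp : 𝔞.IsPrime
  · haveI := hp
    let D := C ⧸ 𝔞
    obtain ⟨g, hg, hD⟩ := exists_flat_away (C := C) M b D
    obtain ⟨g₀, rfl⟩ := Ideal.Quotient.mk_surjective g
    have hg₀ : g₀ ∉ 𝔞 := fun hm => hg (Ideal.Quotient.eq_zero_iff_mem.2 hm)
    let γ := algebraMap C R g₀
    obtain ⟨H₁, hH₁, hH₁'⟩ := exists_lift_gens M b R h γ (quot g₀ hg₀)
    let Rg := Localization.Away γ
    let Dg := Localization.Away (Ideal.Quotient.mk 𝔞 g₀)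
    have h0 : ∀ c ∈ 𝔞, algebraMap C Rg c = 0 := fun c hc => by
      have hc' : algebraMap C R c = 0 := by
        rw [← Ideal.mem_bot, ← h𝔞]; exact Ideal.mem_map_of_mem _ hc
      rw [IsScalarTower.algebraMap_apply C R Rg, hc', map_zero]
    letI : Algebra Dg Rg := (IsLocalization.Away.lift (S := Dg) (Ideal.Quotient.mk 𝔞 g₀)
      (g := Ideal.Quotient.lift 𝔞 (algebraMap C Rg) h0)
      (by rw [Ideal.Quotient.lift_mk, IsScalarTower.algebraMap_apply C R Rg]
          exact IsLocalization.Away.algebraMap_isUnit (S := Rg) γ)).toAlgebra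
    haveI : IsScalarTower C Dg Rg := IsScalarTower.of_algebraMap_eq fun c => by
      rw [IsScalarTower.algebraMap_apply C D Dg]
      exact ((IsLocalization.Away.lift_eq (S := Dg) (Ideal.Quotient.mk 𝔞 g₀) _ _).trans (Ideal.Quotient.lift_mk _ _ _)).symm
    haveI : IsNoetherianRing Dg :=
      IsLocalization.isNoetherianRing (Submonoid.powers (Ideal.Quotient.mk 𝔞 g₀)) Dg inferInstance
    have hfgg : (Krel C M b Rg).FG :=
      fg_baseChange M b Dg Rg (kerBC_of_qFlat M b Dg Rg hD) (fg_of_noetherian M b Dg)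
    obtain ⟨S₂, hS₂⟩ := hfgg
    let θ := theta C R Rg (Pm B M r)
    haveI : Module.Flat R Rg := IsLocalization.flat Rg (Submonoid.powers γ)
    have hclear : ∀ z : Rg ⊗[C] Pm B M r, z ∈ Krel C M b Rg →
        ∃ (k : ℕ), ∃ y ∈ Krel C M b R, θ y = algebraMap R Rg (γ ^ k) • z := fun z hz => by
      have h1 := Krel_le_span M b R Rg (kerBC_of_qFlat M b R Rg h) hz
      clear hz
      induction h1 using Submodule.span_induction with
      | mem w hw => obtain ⟨y, hy, rfl⟩ := hw; exact ⟨0, y, hy, by rw [pow_zero, map_one, one_smul]⟩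
      | zero => exact ⟨0, 0, zero_mem _, by rw [map_zero, smul_zero]⟩
      | add p q _ _ hp hq =>
        obtain ⟨k, y, hy, hy'⟩ := hp
        obtain ⟨k', y', hy2, hy2'⟩ := hq
        refine ⟨k + k', γ ^ k' • y + γ ^ k • y', add_mem (Submodule.smul_of_tower_mem _ _ hy)
          (Submodule.smul_of_tower_mem _ _ hy2), ?_⟩
        rw [map_add, theta_smul, theta_smul, hy', hy2', ← mul_smul, ← mul_smul, ← map_mul, ← map_mul,
          ← pow_add, ← pow_add, smul_add, Nat.add_comm k' k]
      | smul c p _ hp =>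
        obtain ⟨k, y, hy, hy'⟩ := hp
        obtain ⟨⟨a, ⟨_, j, rfl⟩⟩, hj⟩ := IsLocalization.surj (Submonoid.powers γ) c
        refine ⟨k + j, a • y, Submodule.smul_of_tower_mem _ _ hy, ?_⟩
        rw [theta_smul, hy', ← mul_smul, ← mul_smul, ← hj, pow_add, map_mul]
        congr 1
        ring
    choose! k₂ y₂ hy₂ hy₂' using hclear
    let H₂' := S₂.image y₂
    choose N hN1 hN2 using fun y : R ⊗[C] Pm B M r => exists_bound_baseChange (C := C) M R y
    let H₂ := H₂'.biUnion fun y => (Finset.range (N y)).image fun n => (proj C M n).baseChange R y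
    let H := H₁ ∪ H₂
    have hH : ∀ y ∈ H, y ∈ Krel C M b R ∧ ∃ d, (proj C M d).baseChange R y = y := by
      intro z hz
      rcases Finset.mem_union.1 hz with hz | hz
      · exact hH₁ z hz
      obtain ⟨y, hy, hz⟩ := Finset.mem_biUnion.1 hz
      obtain ⟨n, -, rfl⟩ := Finset.mem_image.1 hz
      obtain ⟨s, hs, rfl⟩ := Finset.mem_image.1 hy
      refine ⟨proj_mem_Krel M b R (hy₂ s (hS₂ ▸ Submodule.subset_span hs)) n, n, ?_⟩
      generalize y₂ s = w
      induction w with
      | zero => simp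
      | add p q hp hq => simp [map_add, hp, hq]
      | tmul c p => rw [LinearMap.baseChange_tmul, LinearMap.baseChange_tmul, proj_proj, if_pos rfl]
    let W := Submodule.span (R ⊗[C] Tb B r) (H : Set (R ⊗[C] Pm B M r))
    -- after inverting `g` the relations lie in `W`
    haveI hloc : IsLocalizedModule (Submonoid.powers γ)
        ((AlgebraTensorModule.cancelBaseChange C R Rg Rg (Pm B M r)).toLinearMap.restrictScalars R ∘ₗ
          TensorProduct.mk R Rg (R ⊗[C] Pm B M r) 1) :=
      (isLocalizedModule_iff_isBaseChange (Submonoid.powers γ) Rg _).2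
        (IsBaseChange.of_equiv (AlgebraTensorModule.cancelBaseChange C R Rg Rg (Pm B M r)) fun x => rfl)
    have hθloc : ∀ x, ((AlgebraTensorModule.cancelBaseChange C R Rg Rg (Pm B M r)).toLinearMap.restrictScalars R ∘ₗ
        TensorProduct.mk R Rg (R ⊗[C] Pm B M r) 1) x = θ x := fun x => by
      rw [LinearMap.comp_apply]
      exact (cancel_tmul C R Rg (Pm B M r) 1 x).trans (one_smul _ _)
    have hpow : ∀ y ∈ Krel C M b R, ∃ e : ℕ, γ ^ e • y ∈ W := by
      intro y hy
      have hz : ∃ k : ℕ, ∃ w ∈ W, θ w = algebraMap R Rg (γ ^ k) • θ y := by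
        have hmem : θ y ∈ Submodule.span (Rg ⊗[C] Tb B r) (S₂ : Set (Rg ⊗[C] Pm B M r)) :=
          hS₂.symm ▸ theta_mem_Krel M b R Rg hy
        generalize θ y = z at hmem
        induction hmem using Submodule.span_induction with
        | mem s hs =>
          refine ⟨k₂ s, y₂ s, ?_, hy₂' s (hS₂ ▸ Submodule.subset_span hs)⟩
          rw [← hN2 (y₂ s)]
          exact Submodule.sum_mem _ fun n hn => Submodule.subset_span (Finset.mem_coe.2 (Finset.mem_union_right _
            (Finset.mem_biUnion.2 ⟨y₂ s, Finset.mem_image_of_mem _ hs, Finset.mem_image_of_mem _ hn⟩)))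
        | zero => exact ⟨0, 0, zero_mem _, by rw [map_zero, smul_zero]⟩
        | add p q _ _ hp hq =>
          obtain ⟨k, w, hw, hw'⟩ := hp
          obtain ⟨k', w', hw2, hw2'⟩ := hq
          refine ⟨k + k', γ ^ k' • w + γ ^ k • w', add_mem (Submodule.smul_of_tower_mem _ _ hw)
            (Submodule.smul_of_tower_mem _ _ hw2), ?_⟩
          rw [map_add, theta_smul, theta_smul, hw', hw2', ← mul_smul, ← mul_smul, ← map_mul, ← map_mul,
            ← pow_add, ← pow_add, smul_add, Nat.add_comm k' k]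
        | smul τ p _ hp =>
          induction τ with
          | zero => exact ⟨0, 0, zero_mem _, by rw [map_zero]; exact ((congrArg _ (zero_smul (Rg ⊗[C] Tb B r) p)).trans (smul_zero _)).symm⟩
          | add s t hs ht =>
            obtain ⟨k, w, hw, hw'⟩ := hs
            obtain ⟨k', w', hw2, hw2'⟩ := ht
            refine ⟨k + k', γ ^ k' • w + γ ^ k • w', add_mem (Submodule.smul_of_tower_mem _ _ hw)
              (Submodule.smul_of_tower_mem _ _ hw2), ?_⟩
            rw [map_add, theta_smul, theta_smul, hw', hw2', ← mul_smul, ← mul_smul, ← map_mul, ← map_mul,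
              ← pow_add, ← pow_add, add_smul, smul_add, Nat.add_comm k' k]
          | tmul c t =>
            obtain ⟨k, w, hw, hw'⟩ := hp
            obtain ⟨⟨a, ⟨_, j, rfl⟩⟩, hj⟩ := IsLocalization.surj (Submonoid.powers γ) c
            refine ⟨k + j, (a ⊗ₜ[C] t) • w, W.smul_mem _ hw, ?_⟩
            rw [theta_act, hw', Algebra.TensorProduct.map_tmul, AlgHom.id_apply, IsScalarTower.coe_toAlgHom', ← hj,
              pow_add, map_mul, tmul_smul_eq Rg (Tb B r) (Pm B M r) (c * _), tmul_smul_eq Rg (Tb B r) (Pm B M r) c]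
            rw [← act_algebraMap Rg (Tb B r) (Pm B M r) (algebraMap R Rg (γ ^ k)),
              ← act_algebraMap Rg (Tb B r) (Pm B M r) (c * algebraMap R Rg (γ ^ j)),
              ← act_algebraMap Rg (Tb B r) (Pm B M r) c,
              ← act_algebraMap Rg (Tb B r) (Pm B M r) (algebraMap R Rg (γ ^ k) * algebraMap R Rg (γ ^ j))]
            simp only [← mul_smul, Algebra.TensorProduct.tmul_mul_tmul, one_mul, mul_one]
            congr 2
            ring
      obtain ⟨k, w, hw, hw'⟩ := hz
      have he : θ (γ ^ k • y) = θ w := by rw [theta_smul, hw']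
      rw [← hθloc, ← hθloc] at he
      obtain ⟨⟨_, j, rfl⟩, hj⟩ := IsLocalizedModule.exists_of_eq (S := Submonoid.powers γ) he
      refine ⟨j + k, ?_⟩
      rw [pow_add, mul_smul]
      have hj' : γ ^ j • γ ^ k • y = γ ^ j • w := hj
      rw [hj']
      exact Submodule.smul_of_tower_mem _ _ hw
    have hproj : ∀ (y : R ⊗[C] Pm B M r), y ∈ W → ∀ n, (proj C M n).baseChange R y ∈ W :=
      fun y hy n => proj_mem_span (C := C) M R (fun z hz => (hH z hz).2) hy n
    refine ⟨H, le_antisymm (Submodule.span_le.2 fun z hz => (hH z hz).1) fun x hx => ?_⟩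
    refine mem_of_forall_proj M R fun n => ?_
    obtain ⟨e, he⟩ := exists_pow_smul_proj_mem M b R h n γ W hpow
    have hiter : ∀ j : ℕ, ∀ x ∈ Krel C M b R, ∃ y ∈ Krel C M b R,
        (proj C M n).baseChange R x - γ ^ j • (proj C M n).baseChange R y ∈ W := by
      intro j
      induction j with
      | zero => exact fun x hx => ⟨x, hx, by rw [pow_zero, one_smul, sub_self]; exact zero_mem _⟩
      | succ j ihj =>
        intro x hx
        obtain ⟨y, hy, hy'⟩ := ihj x hx
        obtain ⟨w, hw, z, hz, rfl⟩ := hH₁' y hy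
        refine ⟨z, hz, ?_⟩
        have hwW : (proj C M n).baseChange R w ∈ W :=
          hproj w (Submodule.span_mono (Finset.coe_subset.2 Finset.subset_union_left) hw) n
        have e2 : (proj C M n).baseChange R x - γ ^ (j + 1) • (proj C M n).baseChange R z =
            ((proj C M n).baseChange R x - γ ^ j • (proj C M n).baseChange R (w + γ • z)) +
              γ ^ j • (proj C M n).baseChange R w := by
          rw [map_add, map_smul, smul_add, smul_smul, ← pow_succ]; abel
        rw [e2]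
        exact add_mem hy' (Submodule.smul_of_tower_mem _ _ hwW)
    obtain ⟨y, hy, hy'⟩ := hiter e x hx
    have := add_mem hy' (he y hy)
    rwa [sub_add_cancel] at this
  · obtain ⟨a, ha, c, hc, hac⟩ : ∃ a, a ∉ 𝔞 ∧ ∃ c, c ∉ 𝔞 ∧ a * c ∈ 𝔞 := by
      rw [Ideal.isPrime_iff] at hp
      push Not at hp
      obtain ⟨a, c, h1, h2, h3⟩ := hp htop
      exact ⟨a, h2, c, h3, h1⟩
    obtain ⟨H₁, hH₁, hH₁'⟩ := exists_lift_gens M b R h _ (quot a ha)
    obtain ⟨H₂, hH₂, hH₂'⟩ := exists_lift_gens M b R h _ (quot c hc)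
    refine ⟨H₁ ∪ H₂, le_antisymm (Submodule.span_le.2 fun z hz => ?_) fun x hx => ?_⟩
    · rcases Finset.mem_union.1 hz with hz | hz
      exacts [(hH₁ z hz).1, (hH₂ z hz).1]
    · obtain ⟨w, hw, y, hy, rfl⟩ := hH₁' x hx
      obtain ⟨w', hw', y', -, rfl⟩ := hH₂' y hy
      have h0 : algebraMap C R a * algebraMap C R c = 0 := by
        rw [← map_mul, ← Ideal.mem_bot, ← h𝔞]; exact Ideal.mem_map_of_mem _ hac
      rw [smul_add, smul_smul, h0, zero_smul, add_zero]
      exact add_mem (Submodule.span_mono (Finset.coe_subset.2 Finset.subset_union_left) hw)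
        (Submodule.smul_of_tower_mem _ _ (Submodule.span_mono (Finset.coe_subset.2 Finset.subset_union_right) hw'))

end GrothLib.FlatGr5
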