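import Groth.Agent.Lib.FlatGr5.Stage
import Groth.Agent.Lib.Approx6.ModuleRing

/-! # Models -/

set_option autoImplicit false
set_option linter.style.haveILetI false
universe u

open TensorProduct

namespace GrothLib.FlatGr5

variable (C : Type u) [CommRing C] {B₀ : Type u} [CommRing B₀] [Algebra C B₀]
  {M₀ : Type u} [AddCommGroup M₀] [Module B₀ M₀] [Module C M₀] [IsScalarTower C B₀ M₀]
  (A : Type u) [CommRing A] [Algebra C A] {B : Type u} [CommRing B] [Algebra A B] [Algebra B₀ B]
  [Algebra C B] [IsScalarTower C A B] [IsScalarTower C B₀ B]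
  {M : Type u} [AddCommGroup M] [Module B M] [Module A M] [IsScalarTower A B M] [Module C M] [IsScalarTower C A M]

variable (B₀ B) in
/-- A semilinear map exhibiting `M` as the base change of `M₀`. -/
structure IsModel (φ : M₀ →ₗ[C] M) : Prop where
  semi : ∀ (c : B₀) (m : M₀), φ (c • m) = algebraMap B₀ B c • φ m
  bij : Function.Bijective (φ.liftBaseChange A)

variable {C A}
variable {r : ℕ} (b₀ : Fin r → B₀) {φ : M₀ →ₗ[C] M}

/-- The images of the generators. -/
abbrev bmap : Fin r → B := fun i => algebraMap B₀ B (b₀ i)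

/-- `B₀[T] ⊗ M₀ → B[T] ⊗ M`. -/
noncomputable def phiP (h : IsModel C B₀ A B φ) : Pm B₀ M₀ r →+ Pm B M r :=
  TensorProduct.liftAddHom
    { toFun := fun t =>
        { toFun := fun m => MvPolynomial.map (algebraMap B₀ B) t ⊗ₜ[B] φ m
          map_zero' := by rw [map_zero, TensorProduct.tmul_zero]
          map_add' := fun m m' => by rw [map_add, TensorProduct.tmul_add] }
      map_zero' := by ext m; simp
      map_add' := fun t t' => by ext m; simp [TensorProduct.add_tmul] }
    (fun c t m => by
      show MvPolynomial.map (algebraMap B₀ B) (c • t) ⊗ₜ[B] φ m = MvPolynomial.map (algebraMap B₀ B) t ⊗ₜ[B] φ (c • m)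
      symm
      rw [h.semi, TensorProduct.tmul_smul, TensorProduct.smul_tmul', Algebra.smul_def c t, map_mul, MvPolynomial.algebraMap_eq,
        MvPolynomial.map_C, Algebra.smul_def, MvPolynomial.algebraMap_eq])

theorem phiP_tmul (h : IsModel C B₀ A B φ) (t : Tb B₀ r) (m : M₀) :
    phiP h (t ⊗ₜ[B₀] m) = MvPolynomial.map (algebraMap B₀ B) t ⊗ₜ[B] φ m := rfl

theorem phiP_smulC (h : IsModel C B₀ A B φ) (c : C) (x : Pm B₀ M₀ r) :
    phiP h (c • x) = algebraMap C A c • phiP h x := by
  induction x using TensorProduct.induction_on with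
  | zero => simp
  | add p q hp hq => rw [smul_add, map_add, map_add, smul_add, hp, hq]
  | tmul t m =>
    rw [TensorProduct.smul_tmul', phiP_tmul, phiP_tmul, TensorProduct.smul_tmul']
    congr 1
    rw [Algebra.smul_def, map_mul, Algebra.smul_def, IsScalarTower.algebraMap_apply C B₀ (Tb B₀ r),
      MvPolynomial.algebraMap_eq, MvPolynomial.map_C, IsScalarTower.algebraMap_apply A B (Tb B r),
      MvPolynomial.algebraMap_eq, ← IsScalarTower.algebraMap_apply C B₀ B, IsScalarTower.algebraMap_apply C A B]

/-- `A ⊗ (B₀[T] ⊗ M₀) → B[T] ⊗ M`. -/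
noncomputable def phiX (h : IsModel C B₀ A B φ) : A ⊗[C] Pm B₀ M₀ r →+ Pm B M r :=
  TensorProduct.liftAddHom
    { toFun := fun a =>
        { toFun := fun p => a • phiP h p
          map_zero' := by rw [map_zero, smul_zero]
          map_add' := fun p q => by rw [map_add, smul_add] }
      map_zero' := by ext p; simp
      map_add' := fun a a' => by ext p; simp [add_smul] }
    (fun c a p => by
      show (c • a) • phiP h p = a • phiP h (c • p)
      symm
      rw [phiP_smulC, Algebra.smul_def, smul_smul, mul_comm])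

theorem phiX_tmul (h : IsModel C B₀ A B φ) (a : A) (p : Pm B₀ M₀ r) :
    phiX h (a ⊗ₜ[C] p) = a • phiP h p := rfl

theorem phiX_surjective (h : IsModel C B₀ A B φ) : Function.Surjective (phiX (r := r) h) := by
  intro x
  induction x using TensorProduct.induction_on with
  | zero => exact ⟨0, map_zero _⟩
  | add p q hp hq => obtain ⟨y, rfl⟩ := hp; obtain ⟨z, rfl⟩ := hq; exact ⟨y + z, map_add _ _ _⟩
  | tmul t m =>
    induction t using MvPolynomial.induction_on' generalizing m with
    | add p q hp hq =>
      obtain ⟨y, hy⟩ := hp m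
      obtain ⟨z, hz⟩ := hq m
      exact ⟨y + z, by rw [map_add, hy, hz, TensorProduct.add_tmul]⟩
    | monomial a c =>
      obtain ⟨y, hy⟩ := h.bij.2 (c • m)
      have hc : (MvPolynomial.monomial a c : Tb B r) ⊗ₜ[B] m = (MvPolynomial.monomial a 1 : Tb B r) ⊗ₜ[B] (c • m) := by
        rw [TensorProduct.tmul_smul, TensorProduct.smul_tmul', MvPolynomial.smul_monomial, smul_eq_mul, mul_one]
      rw [hc, ← hy]
      clear hy hc
      induction y using TensorProduct.induction_on with
      | zero => exact ⟨0, by rw [map_zero, map_zero, TensorProduct.tmul_zero]⟩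
      | add p q hp hq =>
        obtain ⟨z, hz⟩ := hp
        obtain ⟨w, hw⟩ := hq
        exact ⟨z + w, by rw [map_add, map_add, hz, hw, TensorProduct.tmul_add]⟩
      | tmul s m₀ =>
        refine ⟨s ⊗ₜ[C] ((MvPolynomial.monomial a 1 : Tb B₀ r) ⊗ₜ[B₀] m₀), ?_⟩
        rw [phiX_tmul, phiP_tmul, MvPolynomial.map_monomial, map_one, LinearMap.liftBaseChange_tmul,
          TensorProduct.tmul_smul]

theorem ev_phiP (h : IsModel C B₀ A B φ) (n : ℕ) (p : Pm B₀ M₀ r) :
    ev A M (bmap b₀) n (phiP h p) = φ (ev C M₀ b₀ n p) := by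
  induction p using TensorProduct.induction_on with
  | zero => simp
  | add p q hp hq => simp [map_add, hp, hq]
  | tmul t m =>
    rw [phiP_tmul, ev_tmul, ev_tmul, h.semi]
    congr 1
    induction t using MvPolynomial.induction_on' with
    | add p q hp hq => simp [map_add, hp, hq]
    | monomial a c =>
      rw [MvPolynomial.map_monomial, MvPolynomial.homogeneousComponent_of_mem (MvPolynomial.isHomogeneous_monomial _ rfl),
        MvPolynomial.homogeneousComponent_of_mem (MvPolynomial.isHomogeneous_monomial _ rfl)]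
      split_ifs
      · rw [MvPolynomial.aeval_monomial, MvPolynomial.aeval_monomial, Algebra.algebraMap_self, Algebra.algebraMap_self,
          RingHom.id_apply, RingHom.id_apply, map_mul, Finsupp.prod, Finsupp.prod, map_prod]
        simp [bmap]
      · simp

theorem ev_phiX (h : IsModel C B₀ A B φ) (n : ℕ) (x : A ⊗[C] Pm B₀ M₀ r) :
    ev A M (bmap b₀) n (phiX h x) = φ.liftBaseChange A ((ev C M₀ b₀ n).baseChange A x) := by
  induction x using TensorProduct.induction_on with
  | zero => simp
  | add p q hp hq => simp [map_add, hp, hq]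
  | tmul a p => rw [phiX_tmul, map_smul, ev_phiP, LinearMap.baseChange_tmul, LinearMap.liftBaseChange_tmul]

/-- `J ^ n M` corresponds to `F n`. -/
theorem map_F (h : IsModel C B₀ A B φ) (n : ℕ) :
    (F C M₀ b₀ A n).map (φ.liftBaseChange A) =
      ((Jb (bmap (B := B) b₀)) ^ n • (⊤ : Submodule B M)).restrictScalars A := by
  rw [← range_ev_baseChange, ← range_ev (C := A) M (bmap b₀) n, ← LinearMap.range_comp]
  apply le_antisymm
  · rintro _ ⟨x, rfl⟩
    exact ⟨phiX h x, ev_phiX b₀ h n x⟩
  · rintro _ ⟨x, rfl⟩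
    obtain ⟨y, rfl⟩ := phiX_surjective h x
    exact ⟨y, (ev_phiX b₀ h n y).symm⟩

theorem mem_F_iff (h : IsModel C B₀ A B φ) (n : ℕ) (z : A ⊗[C] M₀) :
    φ.liftBaseChange A z ∈ (Jb (bmap (B := B) b₀)) ^ n • (⊤ : Submodule B M) ↔ z ∈ F C M₀ b₀ A n := by
  rw [← Submodule.restrictScalars_mem A, ← map_F b₀ h n]
  exact ⟨fun ⟨y, hy, e⟩ => h.bij.1 e ▸ hy, fun hz => ⟨z, hz, rfl⟩⟩

/-- The truncations of `M` are the base changes of those of `M₀`. -/
theorem exists_equiv_Qm (h : IsModel C B₀ A B φ) (n : ℕ) :
    Nonempty (A ⊗[C] Qm C M₀ b₀ n ≃ₗ[A] Qm A M (bmap (B := B) b₀) n) :=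
  ⟨(quotEquiv M₀ b₀ A n).symm ≪≫ₗ Submodule.Quotient.equiv _ _ (LinearEquiv.ofBijective _ h.bij) (map_F b₀ h n)⟩

variable (C A)

/-- The relations of the graded module, over the base. -/
def K0 (M : Type u) [AddCommGroup M] [Module B M] {r : ℕ} (b : Fin r → B) [Module A M] [IsScalarTower A B M] :
    Submodule (Tb B r) (Pm B M r) where
  carrier := {x | ∀ n, ev A M b n x ∈ Jb b ^ (n + 1) • (⊤ : Submodule B M)}
  add_mem' := fun hx hy n => by rw [map_add]; exact add_mem (hx n) (hy n)
  zero_mem' := fun n => by rw [map_zero]; exact zero_mem _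
  smul_mem' := fun t x hx n => by
    induction t using MvPolynomial.induction_on generalizing n x with
    | add p q hp hq => rw [add_smul, map_add]; exact add_mem (hp x hx n) (hq x hx n)
    | C c => rw [ev_C_smul]; exact Submodule.smul_mem _ _ (hx n)
    | mul_X p i hp =>
      rw [mul_smul]
      refine hp _ (fun k => ?_) n
      cases k with
      | zero => rw [ev_X_smul_zero]; exact zero_mem _
      | succ k =>
        rw [ev_X_smul, pow_succ', mul_smul]
        exact Submodule.smul_mem_smul (Ideal.subset_span ⟨i, rfl⟩) (hx k)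

variable {C A}

theorem K0_fg (h : IsModel C B₀ A B φ) (hfg : (Krel C M₀ b₀ A).FG) :
    (K0 A M (bmap (B := B) b₀)).FG := by
  classical
  obtain ⟨H, hH⟩ := hfg
  refine ⟨H.image (phiX h), le_antisymm (Submodule.span_le.2 ?_) fun x hx => ?_⟩
  · rw [Finset.coe_image]
    rintro _ ⟨y, hy, rfl⟩ n
    rw [ev_phiX, mem_F_iff b₀ h]
    exact (hH ▸ Submodule.subset_span hy : y ∈ Krel C M₀ b₀ A) n
  · obtain ⟨y, rfl⟩ := phiX_surjective h x
    have hy : y ∈ Krel C M₀ b₀ A := fun n => by
      rw [← mem_F_iff b₀ h, ← ev_phiX b₀ h]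
      exact hx n
    rw [← hH] at hy
    rw [Finset.coe_image]
    clear hx
    induction hy using Submodule.span_induction with
    | mem z hz => exact Submodule.subset_span ⟨z, hz, rfl⟩
    | zero => rw [map_zero]; exact zero_mem _
    | add p q _ _ hp hq => rw [map_add]; exact add_mem hp hq
    | smul τ p hp0 hp =>
      clear hp0
      induction τ using TensorProduct.induction_on with
      | zero =>
        convert zero_mem (Submodule.span (Tb B r) (phiX h '' (H : Set (A ⊗[C] Pm B₀ M₀ r)))) using 1
        exact (congrArg _ (zero_smul (A ⊗[C] Tb B₀ r) p)).trans (map_zero _)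
      | add s t hs ht => rw [add_smul, map_add]; exact add_mem hs ht
      | tmul a t =>
        have e : phiX h ((a ⊗ₜ[C] t) • p) = a • (MvPolynomial.map (algebraMap B₀ B) t • phiX h p) := by
          clear hp
          induction p using TensorProduct.induction_on with
          | zero => simp
          | add p q hp hq => rw [smul_add, map_add, map_add, smul_add, smul_add, hp, hq]
          | tmul a' q =>
            rw [act_tmul, phiX_tmul, phiX_tmul, smul_comm (MvPolynomial.map (algebraMap B₀ B) t) a', ← mul_smul a a']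
            congr 1
            induction q using TensorProduct.induction_on with
            | zero => simp
            | add u v hu hv => rw [smul_add, map_add, map_add, smul_add, hu, hv]
            | tmul s m =>
              rw [TensorProduct.smul_tmul', phiP_tmul, phiP_tmul, TensorProduct.smul_tmul', smul_eq_mul, smul_eq_mul,
                map_mul]
        rw [e]
        exact Submodule.smul_of_tower_mem _ _ (Submodule.smul_mem _ _ hp)

end GrothLib.FlatGr5

namespace GrothLib.FlatGr5

/-- A finitely presented module with a finitely generated ideal descends to a Noetherian base. -/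
theorem exists_model (A B : Type u) [CommRing A] [CommRing B] [Algebra A B] [Algebra.FinitePresentation A B]
    (J : Ideal B) (hJ : J.FG) (M : Type u) [AddCommGroup M] [Module B M] [Module A M] [IsScalarTower A B M]
    [Module.FinitePresentation B M] :
    ∃ (C : Type u) (_ : CommRing C) (_ : Algebra C A) (B₀ : Type u) (_ : CommRing B₀) (_ : Algebra C B₀)
      (M₀ : Type u) (_ : AddCommGroup M₀) (_ : Module B₀ M₀) (_ : Module C M₀) (_ : IsScalarTower C B₀ M₀)
      (_ : Algebra B₀ B) (_ : Algebra C B) (_ : IsScalarTower C A B) (_ : IsScalarTower C B₀ B)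
      (_ : Module C M) (_ : IsScalarTower C A M) (r : ℕ) (b₀ : Fin r → B₀) (φ : M₀ →ₗ[C] M),
      IsNoetherianRing C ∧ Algebra.FiniteType C B₀ ∧ Module.Finite B₀ M₀ ∧
      IsModel C B₀ A B φ ∧ Jb (bmap (B := B) b₀) = J := by
  classical
  obtain ⟨A₀, _, _, B₁, _, _, e, M₁, _, _, hA₀, hB₁, hM₁, ⟨eM⟩⟩ := Approx6.exists_module_model A B M
  letI algB₁ : Algebra B₁ B :=
    (e.toRingEquiv.toRingHom.comp Algebra.TensorProduct.includeRight.toRingHom).toAlgebra
  letI : Module A₀ M₁ := Module.compHom M₁ (algebraMap A₀ B₁)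
  haveI : IsScalarTower A₀ B₁ M₁ := IsScalarTower.of_algebraMap_smul fun _ _ => rfl
  letI : Algebra A₀ B := ((algebraMap A B).comp (algebraMap A₀ A)).toAlgebra
  haveI : IsScalarTower A₀ A B := IsScalarTower.of_algebraMap_eq fun _ => rfl
  haveI : IsScalarTower A₀ B₁ B := IsScalarTower.of_algebraMap_eq fun x => by
    show algebraMap A B (algebraMap A₀ A x) = e (1 ⊗ₜ algebraMap A₀ B₁ x)
    rw [← e.commutes]
    congr 1
    exact ((Algebra.TensorProduct.includeRight : B₁ →ₐ[A₀] A ⊗[A₀] B₁).commutes x).symm
  haveI : Algebra.IsPushout A₀ A B₁ B := ⟨IsBaseChange.of_equiv e.toLinearEquiv fun x => rfl⟩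
  let eA : A ⊗[A₀] M₁ ≃ₗ[A] M :=
    (Algebra.IsPushout.cancelBaseChange A₀ A B₁ B M₁).symm.trans (eM.restrictScalars A)
  obtain ⟨r, g, hg⟩ := Submodule.fg_iff_exists_fin_generating_family.1 hJ
  haveI : IsNoetherianRing A₀ := Algebra.FiniteType.isNoetherianRing ℤ A₀
  obtain ⟨S, hS, hlift⟩ := exists_stage_mem A (Finset.univ.image fun i => e.symm (g i))
  choose b₀ hb₀ using fun i => hlift _ (Finset.mem_image_of_mem (fun i => e.symm (g i)) (Finset.mem_univ i))
  haveI : Algebra.FiniteType A₀ B₁ := inferInstance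
  haveI : IsNoetherianRing (S : Type u) := isNoetherianRing_of_fg hS
  letI : Algebra ((S : Type u) ⊗[A₀] B₁) B :=
    (e.toRingEquiv.toRingHom.comp (Algebra.TensorProduct.map (S.val) (AlgHom.id A₀ B₁)).toRingHom).toAlgebra
  haveI : IsScalarTower (S : Type u) A B := IsScalarTower.of_algebraMap_eq fun _ => rfl
  haveI : IsScalarTower (S : Type u) ((S : Type u) ⊗[A₀] B₁) B := ⟨fun x τ z => by
    show e (Algebra.TensorProduct.map S.val (AlgHom.id A₀ B₁) (x • τ)) * z =
      (x : A) • (e (Algebra.TensorProduct.map S.val (AlgHom.id A₀ B₁) τ) * z)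
    rw [← smul_mul_assoc, ← map_smul]
    congr 2
    induction τ using TensorProduct.induction_on with
    | zero => simp
    | add p q hp hq => simp [smul_add, map_add, hp, hq]
    | tmul s c => simp [TensorProduct.smul_tmul']⟩
  haveI : IsScalarTower (S : Type u) A M := IsScalarTower.of_algebraMap_smul fun _ _ => rfl
  let φ : (S : Type u) ⊗[A₀] M₁ →ₗ[(S : Type u)] M :=
    (eA.toLinearMap.restrictScalars (S : Type u)) ∘ₗ
      AlgebraTensorModule.map (Algebra.linearMap (S : Type u) A) (LinearMap.id : M₁ →ₗ[A₀] M₁)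
  refine ⟨(S : Type u), inferInstance, inferInstance, (S : Type u) ⊗[A₀] B₁, inferInstance, inferInstance,
    (S : Type u) ⊗[A₀] M₁, inferInstance, inferInstance, inferInstance, inferInstance, inferInstance, inferInstance,
    inferInstance, inferInstance, inferInstance, inferInstance, r, b₀, φ, inferInstance, inferInstance, inferInstance,
    ⟨fun c m => ?_, ?_⟩, ?_⟩
  · induction c using TensorProduct.induction_on with
    | zero =>
      rw [map_zero, zero_smul B]
      exact (congrArg _ (zero_smul ((S : Type u) ⊗[A₀] B₁) m)).trans (map_zero _)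
    | add p q hp hq => rw [add_smul, map_add, map_add, add_smul, hp, hq]
    | tmul s c =>
      induction m using TensorProduct.induction_on with
      | zero => simp
      | add p q hp hq => rw [smul_add, map_add, map_add, smul_add, hp, hq]
      | tmul s' m =>
        rw [act_tmul]
        show eA (((s * s' : (S : Type u)) : A) ⊗ₜ (c • m)) =
          e (((s : A) ⊗ₜ c)) • eA ((s' : A) ⊗ₜ m)
        have key : ∀ (a : A) (m : M₁), eA (a ⊗ₜ m) = a • eM (1 ⊗ₜ m) := fun a m => by
          simp [eA]
          rw [show (algebraMap A B a) ⊗ₜ[B₁] m = algebraMap A B a • ((1 : B) ⊗ₜ[B₁] m) by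
            rw [TensorProduct.smul_tmul', smul_eq_mul, mul_one], map_smul, algebraMap_smul]
        rw [key, key, show (1 : B) ⊗ₜ[B₁] (c • m) = algebraMap B₁ B c • ((1 : B) ⊗ₜ[B₁] m) by
          rw [TensorProduct.tmul_smul, algebraMap_smul], map_smul]
        have he : e ((s : A) ⊗ₜ c) = (s : A) • algebraMap B₁ B c := by
          show _ = (s : A) • e ((1 : A) ⊗ₜ c)
          rw [← map_smul, TensorProduct.smul_tmul', smul_eq_mul, mul_one]
        rw [he, smul_assoc, smul_comm (algebraMap B₁ B c) (s' : A), ← mul_smul (s : A)]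
        rfl
  · have e2 : φ.liftBaseChange A =
        (AlgebraTensorModule.cancelBaseChange A₀ (S : Type u) A A M₁ ≪≫ₗ eA).toLinearMap := by
      refine AlgebraTensorModule.ext fun a x => ?_
      induction x using TensorProduct.induction_on with
      | zero => simp
      | add p q hp hq => rw [TensorProduct.tmul_add, map_add, map_add, hp, hq]
      | tmul s m =>
        simp [φ, ← map_smul, Algebra.smul_def, mul_comm]
        show a • ((s : A) ⊗ₜ[A₀] m) = _
        rw [TensorProduct.smul_tmul']
        rfl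
    rw [e2]
    exact (AlgebraTensorModule.cancelBaseChange A₀ (S : Type u) A A M₁ ≪≫ₗ eA).bijective
  · rw [← hg]
    congr 1
    refine funext fun i => ?_
    show e (Algebra.TensorProduct.map S.val (AlgHom.id A₀ B₁) (b₀ i)) = g i
    have h2 : Algebra.TensorProduct.map S.val (AlgHom.id A₀ B₁) (b₀ i) = e.symm (g i) := hb₀ i
    rw [h2, AlgEquiv.apply_symm_apply]

end GrothLib.FlatGr5
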