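import Groth.Agent.Lib.FlatGr5.Apply
import Groth.Agent.Lib.FibreFlat.OpenLocus

/-! # Openness of normal flatness -/

set_option autoImplicit false
set_option linter.style.haveILetI false
universe u

open TensorProduct

namespace GrothLib.FlatGr5

/-- Flatness of a localisation, by elements. -/
theorem exists_smul_eq_zero_of_flat {R A M : Type u} [CommRing R] [CommRing A] [Algebra R A] [AddCommGroup M]
    [Module A M] [Module R M] [IsScalarTower R A M] (T : Submonoid A) {N N' : Type u} [AddCommGroup N] [Module R N]
    [AddCommGroup N'] [Module R N'] (f : N →ₗ[R] N') (hL : Function.Injective (f.lTensor (LocalizedModule T M)))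
    (x : M ⊗[R] N) (hx : f.lTensor M x = 0) : ∃ t ∈ T, t • x = 0 := by
  let g := LocalizedModule.mkLinearMap T M
  let ιN := AlgebraTensorModule.rTensor R N g
  have hc : ∀ z, f.lTensor (LocalizedModule T M) (ιN z) = (g.restrictScalars R).rTensor N' (f.lTensor M z) :=
    fun z => by
    induction z using TensorProduct.induction_on with
    | zero => simp
    | add p q hp hq => simp [map_add, hp, hq]
    | tmul a c => rfl
  have h1 : ιN x = 0 := hL (by rw [map_zero, hc, hx, map_zero])
  obtain ⟨⟨t, ht⟩, hty⟩ := (IsLocalizedModule.eq_zero_iff T ιN).1 h1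
  exact ⟨t, ht, hty⟩

/-- Flatness of a localisation: kernels are killed by the multiplicative set. -/
theorem flat_localized_iff {R A M : Type u} [CommRing R] [CommRing A] [Algebra R A] [AddCommGroup M]
    [Module A M] [Module R M] [IsScalarTower R A M] (T : Submonoid A) :
    Module.Flat R (LocalizedModule T M) ↔ ∀ (N N' : Type u) [AddCommGroup N] [Module R N] [AddCommGroup N']
      [Module R N'] (f : N →ₗ[R] N'), Function.Injective f → ∀ x, f.lTensor M x = 0 → ∃ t ∈ T, t • x = 0 := by
  rw [Module.Flat.iff_lTensor_preserves_injective_linearMap]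
  exact ⟨fun h N N' _ _ _ _ f hf x hx => exists_smul_eq_zero_of_flat T f (h f hf) x hx,
    fun h N N' _ _ _ _ f hf => FibreFlat.lTensor_injective_of_isLocalizedModule T
      (LocalizedModule.mkLinearMap T M) f (h N N' f hf)⟩

section

variable {B : Type u} [CommRing B] (M : Type u) [AddCommGroup M] [Module B M] {r : ℕ} (b : Fin r → B)

/-- The graded module over `B[T]`. -/
abbrev G0 : Type u := Pm B M r ⧸ K0 B M b

/-- The graded piece. -/
abbrev Qp (k : ℕ) : Type u :=
  ↥(Jb b ^ k • (⊤ : Submodule B M)) ⧸
    Submodule.comap (Jb b ^ k • (⊤ : Submodule B M)).subtype (Jb b ^ (k + 1) • ⊤)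

/-- The degree `k` component of `P` mapped to the piece. -/
noncomputable def piP (k : ℕ) : Pm B M r →ₗ[B] Qp M b k :=
  Submodule.mkQ _ ∘ₗ (ev B M b k).codRestrict _ fun x =>
    (range_ev (C := B) M b k).le ⟨x, rfl⟩

theorem piP_surjective (k : ℕ) : Function.Surjective (piP M b k) := fun z => by
  obtain ⟨⟨m, hm⟩, rfl⟩ := Submodule.Quotient.mk_surjective _ z
  obtain ⟨x, hx⟩ := (range_ev (C := B) M b k).ge hm
  exact ⟨x, congrArg Submodule.Quotient.mk (Subtype.ext hx)⟩

theorem piP_eq_zero_iff (k : ℕ) (x : Pm B M r) :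
    piP M b k x = 0 ↔ ev B M b k x ∈ Jb b ^ (k + 1) • (⊤ : Submodule B M) :=
  Submodule.Quotient.mk_eq_zero _

/-- `G → Gr^k`. -/
noncomputable def pG (k : ℕ) : G0 M b →ₗ[B] Qp M b k :=
  ((K0 B M b).restrictScalars B).liftQ (piP M b k) (fun x hx =>
    (piP_eq_zero_iff M b k x).2 (hx k)) ∘ₗ (Submodule.Quotient.restrictScalarsEquiv B (K0 B M b)).symm.toLinearMap

theorem pG_mk (k : ℕ) (x : Pm B M r) : pG M b k (Submodule.Quotient.mk x) = piP M b k x := rfl

/-- `Gr^k → G`. -/
noncomputable def sG (k : ℕ) : Qp M b k →ₗ[B] G0 M b :=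
  (LinearMap.ker (piP M b k)).liftQ ((Submodule.mkQ (K0 B M b)).restrictScalars B ∘ₗ proj B M k) (fun x hx => by
    rw [LinearMap.mem_ker, LinearMap.comp_apply]
    refine (Submodule.Quotient.mk_eq_zero _).2 fun n => ?_
    rw [ev_proj]
    split_ifs with h
    · subst h; exact (piP_eq_zero_iff M b _ x).1 hx
    · exact zero_mem _) ∘ₗ
  ((piP M b k).quotKerEquivOfSurjective (piP_surjective M b k)).symm.toLinearMap

theorem sG_piP (k : ℕ) (x : Pm B M r) : sG M b k (piP M b k x) = Submodule.Quotient.mk (proj B M k x) := by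
  have e : ((piP M b k).quotKerEquivOfSurjective (piP_surjective M b k)).symm (piP M b k x) =
      Submodule.Quotient.mk x := by
    rw [LinearEquiv.symm_apply_eq]; rfl
  rw [sG]
  simp only [LinearMap.comp_apply, LinearEquiv.coe_coe]
  rw [e]
  rfl

theorem hc_mul_hc (k : ℕ) (t u : Tb B r) :
    MvPolynomial.homogeneousComponent k (t * MvPolynomial.homogeneousComponent k u) =
      MvPolynomial.C (MvPolynomial.constantCoeff t) * MvPolynomial.homogeneousComponent k u := by
  induction t using MvPolynomial.induction_on' with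
  | add p q hp hq => rw [add_mul, map_add, hp, hq, map_add, map_add, add_mul]
  | monomial a c =>
    rw [MvPolynomial.homogeneousComponent_of_mem ((MvPolynomial.isHomogeneous_monomial c rfl).mul
      (MvPolynomial.homogeneousComponent_isHomogeneous k u))]
    by_cases ha : a = 0
    · subst ha
      rw [if_pos (by simp)]
      simp
    · rw [if_neg (fun h => ha ((Finsupp.degree_eq_zero_iff a).1 (by omega))), MvPolynomial.constantCoeff_monomial,
        if_neg ha, map_zero, zero_mul]

theorem pG_smul_sG (k : ℕ) (t : Tb B r) (z : Qp M b k) :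
    pG M b k (t • sG M b k z) = MvPolynomial.constantCoeff t • z := by
  obtain ⟨x, rfl⟩ := piP_surjective M b k z
  rw [sG_piP, ← Submodule.Quotient.mk_smul, pG_mk, ← LinearMap.map_smul (piP M b k) (MvPolynomial.constantCoeff t) x]
  refine congrArg (Submodule.Quotient.mk) (Subtype.ext ?_)
  show ev B M b k (t • proj B M k x) = ev B M b k (MvPolynomial.constantCoeff t • x)
  induction x using TensorProduct.induction_on with
  | zero => simp
  | add p q hp hq => rw [map_add, smul_add, smul_add, map_add, map_add, hp, hq]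
  | tmul u m =>
    rw [proj_tmul, TensorProduct.smul_tmul', TensorProduct.smul_tmul', ev_tmul, ev_tmul, smul_eq_mul, hc_mul_hc,
      MvPolynomial.smul_eq_C_mul, MvPolynomial.homogeneousComponent_C_mul]

theorem exists_sum_eq {N : Type u} [AddCommGroup N] [Module B N] (x : G0 M b ⊗[B] N) :
    ∃ n₀, ∀ n, n₀ ≤ n → ∑ k ∈ Finset.range n, (sG M b k).rTensor N ((pG M b k).rTensor N x) = x := by
  induction x using TensorProduct.induction_on with
  | zero => exact ⟨0, fun n _ => by simp⟩
  | add p q hp hq =>
    obtain ⟨a, ha⟩ := hp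
    obtain ⟨c, hc⟩ := hq
    exact ⟨max a c, fun n hn => by
      simp only [map_add, Finset.sum_add_distrib]
      rw [ha n (by omega), hc n (by omega)]⟩
  | tmul g y =>
    obtain ⟨p, rfl⟩ := Submodule.Quotient.mk_surjective _ g
    obtain ⟨n₀, h1, h2⟩ := exists_bound (C := B) M p
    refine ⟨n₀, fun n hn => ?_⟩
    simp only [LinearMap.rTensor_tmul, pG_mk, sG_piP]
    rw [← TensorProduct.sum_tmul]
    simp only [← Submodule.mkQ_apply]
    rw [← map_sum, ← Finset.sum_subset (Finset.range_mono hn) fun k _ hk => h1 k (by simpa using hk), h2]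

variable (J : Ideal B) (hJ : Jb b = J)

include hJ in
theorem smul_G0_eq_zero {c : B} (hc : c ∈ J) (g : G0 M b) : c • g = 0 := by
  obtain ⟨p, rfl⟩ := Submodule.Quotient.mk_surjective _ g
  rw [← Submodule.Quotient.mk_smul]
  refine (Submodule.Quotient.mk_eq_zero _).2 fun n => ?_
  rw [map_smul, pow_succ', mul_smul]
  exact Submodule.smul_mem_smul (hJ.ge hc) ((range_ev (C := B) M b n).le ⟨p, rfl⟩)

include hJ in
theorem C_smul_G0_eq_zero {t : Tb B r} (ht : MvPolynomial.map (Ideal.Quotient.mk J) t = 0) (g : G0 M b) :
    t • g = 0 := by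
  have : t ∈ J.map (MvPolynomial.C : B →+* Tb B r) := by
    rw [MvPolynomial.mem_map_C_iff]
    intro a
    have := congrArg (MvPolynomial.coeff a) ht
    rw [MvPolynomial.coeff_map, MvPolynomial.coeff_zero] at this
    exact Ideal.Quotient.eq_zero_iff_mem.1 this
  clear ht
  induction this using Submodule.span_induction with
  | mem x hx =>
    obtain ⟨c, hc, rfl⟩ := hx
    rw [← MvPolynomial.algebraMap_eq, algebraMap_smul]
    exact smul_G0_eq_zero M b J hJ hc g
  | zero => exact zero_smul _ _
  | add x y _ _ hx hy => rw [add_smul, hx, hy, add_zero]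
  | smul a x _ hx => rw [smul_eq_mul, mul_smul, hx, smul_zero]

attribute [local instance] MvPolynomial.algebraMvPolynomial

/-- The graded module over `(B ⧸ J)[T]`. -/
abbrev Gbar : Type u := MvPolynomial (Fin r) (B ⧸ J) ⊗[MvPolynomial (Fin r) B] G0 M b

include hJ in
theorem exists_equiv_Gbar : ∃ e : G0 M b ≃ₗ[Tb B r] Gbar M b J, ∀ g, e g = (1 : MvPolynomial (Fin r) (B ⧸ J)) ⊗ₜ g := by
  let Tq := MvPolynomial (Fin r) (B ⧸ J)
  have hsurj : Function.Surjective (algebraMap (Tb B r) Tq) :=
    MvPolynomial.map_surjective _ Ideal.Quotient.mk_surjective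
  let j := TensorProduct.mk (Tb B r) Tq (G0 M b) 1
  have hj : Function.Surjective j := TensorProduct.mk_surjective _ _ _ hsurj
  have hex : Function.Exact (LinearMap.ker (Algebra.linearMap (Tb B r) Tq)).subtype (Algebra.linearMap (Tb B r) Tq) :=
    LinearMap.exact_subtype_ker_map _
  refine ⟨LinearEquiv.ofBijective j ⟨(injective_iff_map_eq_zero _).2 fun g hg => ?_, hj⟩, fun g => rfl⟩
  have hg' : (Algebra.linearMap (Tb B r) Tq).rTensor (G0 M b) ((1 : Tb B r) ⊗ₜ g) = 0 := by
    rw [LinearMap.rTensor_tmul, Algebra.linearMap_apply, map_one]; exact hg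
  obtain ⟨s, hs⟩ := (rTensor_exact (G0 M b) hex hsurj _).1 hg'
  have h0 : TensorProduct.lid (Tb B r) (G0 M b)
      ((LinearMap.ker (Algebra.linearMap (Tb B r) Tq)).subtype.rTensor (G0 M b) s) = 0 := by
    clear hs
    induction s using TensorProduct.induction_on with
    | zero => simp
    | add p q hp hq => rw [map_add, map_add, hp, hq, add_zero]
    | tmul t g =>
      rw [LinearMap.rTensor_tmul, TensorProduct.lid_tmul]
      exact C_smul_G0_eq_zero M b J hJ t.2 g
  rw [hs, TensorProduct.lid_tmul, one_smul] at h0
  exact h0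

include hJ in
/-- Normal flatness at `q` is flatness at the point of the zero section over `q`. -/
theorem normalFlat_iff (q : Ideal (B ⧸ J)) [q.IsPrime] :
    (∀ k : ℕ, Module.Flat (B ⧸ J) ((B ⧸ J) ⊗[B]
        LocalizedModule (q.comap (Ideal.Quotient.mk J)).primeCompl (Qp M b k))) ↔
      Module.Flat (B ⧸ J) (LocalizedModule
        (q.comap (MvPolynomial.constantCoeff (R := B ⧸ J) (σ := Fin r))).primeCompl (Gbar M b J)) := by
  let Bq := B ⧸ J
  let Tq := MvPolynomial (Fin r) Bq
  let P : Ideal Tq := q.comap MvPolynomial.constantCoeff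
  haveI : IsScalarTower B (Tb B r) Tq := IsScalarTower.of_algebraMap_eq fun c => by
    show algebraMap B Tq c = MvPolynomial.map _ (MvPolynomial.C c)
    rw [MvPolynomial.map_C]
    rfl
  obtain ⟨e, he⟩ := exists_equiv_Gbar M b J hJ
  haveI : IsScalarTower B Bq (Gbar M b J) := ⟨fun c d g => by
    obtain ⟨g, rfl⟩ := e.surjective g
    rw [he, TensorProduct.smul_tmul', TensorProduct.smul_tmul', TensorProduct.smul_tmul', smul_assoc]⟩
  let E : ∀ (N : Type u) [AddCommGroup N] [Module Bq N] [Module B N] [IsScalarTower B Bq N],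
      G0 M b ⊗[B] N ≃ₗ[B] Gbar M b J ⊗[Bq] N := fun N _ _ _ _ =>
    haveI : CompatibleSMul Bq B (Gbar M b J) N := ⟨fun c g y => by
      rw [← algebraMap_smul Bq c g, TensorProduct.smul_tmul, algebraMap_smul]⟩
    haveI : CompatibleSMul B Bq (Gbar M b J) N := ⟨fun c g y => by
      obtain ⟨c, rfl⟩ := Ideal.Quotient.mk_surjective c
      show (algebraMap B Bq c • g) ⊗ₜ[B] y = g ⊗ₜ[B] (algebraMap B Bq c • y)
      rw [show algebraMap B Bq c • g = c • g from algebraMap_smul Bq c g,
        show algebraMap B Bq c • y = c • y from algebraMap_smul Bq c y, TensorProduct.smul_tmul]⟩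
    (TensorProduct.congr (e.restrictScalars B) (LinearEquiv.refl B N)).trans
      (TensorProduct.equivOfCompatibleSMul Bq B B (Gbar M b J) N)
  have hE : ∀ (N : Type u) [AddCommGroup N] [Module Bq N] [Module B N] [IsScalarTower B Bq N]
      (g : G0 M b) (y : N), E N (g ⊗ₜ y) = e g ⊗ₜ y := fun N _ _ _ _ g y => rfl
  have hflat_iff : ∀ (k : ℕ), Module.Flat Bq (Bq ⊗[B] LocalizedModule (q.comap (Ideal.Quotient.mk J)).primeCompl (Qp M b k)) ↔
      ∀ (N N' : Type u) [AddCommGroup N] [AddCommGroup N'] [Module Bq N] [Module Bq N'] (f : N →ₗ[Bq] N')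
        [Module B N] [Module B N'] [IsScalarTower B Bq N] [IsScalarTower B Bq N'],
        Function.Injective f → ∀ x, (f.restrictScalars B).lTensor (Qp M b k) x = 0 →
          ∃ t ∈ (q.comap (Ideal.Quotient.mk J)).primeCompl, t • x = 0 := by
    intro k
    let S := (q.comap (Ideal.Quotient.mk J)).primeCompl
    let L := LocalizedModule S (Qp M b k)
    let D : ∀ (N : Type u) [AddCommGroup N] [Module Bq N] [Module B N] [IsScalarTower B Bq N],
        N ⊗[Bq] (Bq ⊗[B] L) ≃ₗ[B] L ⊗[B] N := fun N _ _ _ _ =>
      ((AlgebraTensorModule.cancelBaseChange B Bq Bq N L).restrictScalars B).trans (TensorProduct.comm B N L)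
    have hD : ∀ (N : Type u) [AddCommGroup N] [Module Bq N] [Module B N] [IsScalarTower B Bq N]
        (y : N) (c : Bq) (l : L), D N (y ⊗ₜ (c ⊗ₜ l)) = l ⊗ₜ (c • y) := fun N _ _ _ _ y c l => by simp [D]
    have hnat : ∀ (N N' : Type u) [AddCommGroup N] [AddCommGroup N'] [Module Bq N] [Module Bq N']
        (f : N →ₗ[Bq] N') [Module B N] [Module B N'] [IsScalarTower B Bq N] [IsScalarTower B Bq N'] z,
        D N' (f.rTensor _ z) = (f.restrictScalars B).lTensor L (D N z) := by
      intro N N' _ _ _ _ f _ _ _ _ z
      induction z using TensorProduct.induction_on with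
      | zero => simp
      | add p q hp hq => simp [map_add, hp, hq]
      | tmul y w =>
        induction w using TensorProduct.induction_on with
        | zero => simp
        | add p q hp hq =>
          rw [TensorProduct.tmul_add]
          simp only [map_add, hp, hq]
        | tmul c l => rw [LinearMap.rTensor_tmul, hD, hD, LinearMap.lTensor_tmul, LinearMap.restrictScalars_apply, map_smul]
    constructor
    · intro hf N N' _ _ _ _ f _ _ _ _ hinj x hx
      refine exists_smul_eq_zero_of_flat S (f.restrictScalars B) ?_ x hx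
      intro a c hac
      obtain ⟨a, rfl⟩ := (D N).surjective a
      obtain ⟨c, rfl⟩ := (D N).surjective c
      rw [← hnat, ← hnat] at hac
      rw [Module.Flat.rTensor_preserves_injective_linearMap f hinj ((D N').injective hac)]
    · intro h
      rw [Module.Flat.iff_rTensor_preserves_injective_linearMap]
      intro N N' _ _ _ _ f hinj
      letI : Module B N := Module.compHom N (algebraMap B Bq)
      haveI : IsScalarTower B Bq N := IsScalarTower.of_algebraMap_smul fun _ _ => rfl
      letI : Module B N' := Module.compHom N' (algebraMap B Bq)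
      haveI : IsScalarTower B Bq N' := IsScalarTower.of_algebraMap_smul fun _ _ => rfl
      have hl := FibreFlat.lTensor_injective_of_isLocalizedModule S (LocalizedModule.mkLinearMap S (Qp M b k))
        (f.restrictScalars B) (fun x hx => h N N' f hinj x hx)
      intro a c hac
      exact (D N).injective (hl (by rw [← hnat, ← hnat, hac]))
  refine (forall_congr' hflat_iff).trans ?_
  constructor
  · intro h
    refine (flat_localized_iff (R := Bq) (A := Tq) (M := Gbar M b J) P.primeCompl).2
      fun N N' _ _ _ _ f hinj x hx => ?_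
    letI : Module B N := Module.compHom N (algebraMap B Bq)
    haveI : IsScalarTower B Bq N := IsScalarTower.of_algebraMap_smul fun _ _ => rfl
    letI : Module B N' := Module.compHom N' (algebraMap B Bq)
    haveI : IsScalarTower B Bq N' := IsScalarTower.of_algebraMap_smul fun _ _ => rfl
    obtain ⟨y, rfl⟩ := (E N).surjective x
    have hy : (f.restrictScalars B).lTensor (G0 M b) y = 0 := by
      apply (E N').injective
      rw [map_zero, ← hx]
      clear hx
      induction y using TensorProduct.induction_on with
      | zero => simp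
      | add p q hp hq => simp [map_add, hp, hq]
      | tmul g z => rw [LinearMap.lTensor_tmul, hE, hE]; rfl
    have hk : ∀ k, ∃ t ∈ (q.comap (Ideal.Quotient.mk J)).primeCompl, t • (pG M b k).rTensor N y = 0 := fun k => by
      refine h k N N' f hinj _ ?_
      rw [← LinearMap.comp_apply, LinearMap.lTensor_comp_rTensor, ← LinearMap.rTensor_comp_lTensor,
        LinearMap.comp_apply, hy, map_zero]
    choose t ht htz using hk
    obtain ⟨n₀, hn₀⟩ := exists_sum_eq M b y
    let c := ∏ k ∈ Finset.range n₀, t k
    have hc : c • y = 0 := by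
      rw [← hn₀ n₀ le_rfl, Finset.smul_sum]
      refine Finset.sum_eq_zero fun k hk => ?_
      obtain ⟨d, hd⟩ := Finset.dvd_prod_of_mem t hk
      rw [← map_smul, show c = d * t k by rw [mul_comm]; exact hd, mul_smul, htz k, smul_zero, map_zero]
    have hcq : c ∈ (q.comap (Ideal.Quotient.mk J)).primeCompl := Submonoid.prod_mem _ fun k _ => ht k
    refine ⟨algebraMap B Tq c, ?_, ?_⟩
    · intro hm
      apply hcq
      have hm' : MvPolynomial.constantCoeff (algebraMap B Tq c) ∈ q := hm
      rwa [show algebraMap B Tq c = MvPolynomial.C (Ideal.Quotient.mk J c) from rfl,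
        MvPolynomial.constantCoeff_C] at hm'
    · rw [algebraMap_smul, ← map_smul, hc, map_zero]
  · intro hf k N N' _ _ _ _ f _ _ _ _ hinj x hx
    let y := (sG M b k).rTensor N x
    have hy : f.lTensor (Gbar M b J) (E N y) = 0 := by
      have : E N' ((f.restrictScalars B).lTensor (G0 M b) y) = f.lTensor (Gbar M b J) (E N y) := by
        generalize y = z
        induction z using TensorProduct.induction_on with
        | zero => simp
        | add p q hp hq => simp [map_add, hp, hq]
        | tmul g z => rw [LinearMap.lTensor_tmul, hE, hE]; rfl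
      rw [← this]
      have h0 : (f.restrictScalars B).lTensor (G0 M b) y = 0 := by
        show (f.restrictScalars B).lTensor (G0 M b) ((sG M b k).rTensor N x) = 0
        rw [← LinearMap.comp_apply, LinearMap.lTensor_comp_rTensor, ← LinearMap.rTensor_comp_lTensor,
          LinearMap.comp_apply, hx, map_zero]
      rw [h0, map_zero]
    obtain ⟨τ, hτ, hτy⟩ := (flat_localized_iff (R := Bq) (A := Tq) (M := Gbar M b J) P.primeCompl).1 hf
      N N' f hinj (E N y) hy
    obtain ⟨t, rfl⟩ : ∃ t : Tb B r, algebraMap (Tb B r) Tq t = τ :=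
      MvPolynomial.map_surjective _ Ideal.Quotient.mk_surjective τ
    refine ⟨MvPolynomial.constantCoeff t, ?_, ?_⟩
    · intro hm
      apply hτ
      show MvPolynomial.constantCoeff (MvPolynomial.map (Ideal.Quotient.mk J) t) ∈ q
      rw [MvPolynomial.constantCoeff_map]
      exact hm
    · have hty : t • y = 0 := by
        apply (E N).injective
        rw [map_zero, ← hτy]
        generalize y = z
        induction z using TensorProduct.induction_on with
        | zero => simp
        | add p q hp hq => simp only [smul_add, map_add, hp, hq]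
        | tmul g z =>
          rw [TensorProduct.smul_tmul', hE, hE, TensorProduct.smul_tmul', map_smul, algebraMap_smul]
      have key : ∀ z : Qp M b k ⊗[B] N,
          (pG M b k).rTensor N (t • (sG M b k).rTensor N z) = MvPolynomial.constantCoeff t • z := fun z => by
        induction z using TensorProduct.induction_on with
        | zero => simp
        | add p q hp hq => simp only [map_add, smul_add, hp, hq]
        | tmul g z =>
          rw [LinearMap.rTensor_tmul, TensorProduct.smul_tmul', LinearMap.rTensor_tmul, pG_smul_sG,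
            TensorProduct.smul_tmul']
      rw [← key x]
      exact (congrArg _ hty).trans (map_zero _)

theorem isOpen_flat_Gbar (hfg : (K0 B M b).FG) [Module.FinitePresentation B M] :
    IsOpen {P : PrimeSpectrum (MvPolynomial (Fin r) (B ⧸ J)) |
      Module.Flat (B ⧸ J) (LocalizedModule P.asIdeal.primeCompl (Gbar M b J))} := by
  haveI : Module.FinitePresentation (Tb B r) (Pm B M r) := inferInstance
  haveI : Module.FinitePresentation (Tb B r) (G0 M b) :=
    Module.finitePresentation_of_surjective (K0 B M b).mkQ (Submodule.mkQ_surjective _)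
      (by rw [Submodule.ker_mkQ]; exact hfg)
  haveI : Module.FinitePresentation (MvPolynomial (Fin r) (B ⧸ J)) (Gbar M b J) := inferInstance
  exact GrothLib.FibreFlat.isOpen_flat_locus (R := B ⧸ J) (A := MvPolynomial (Fin r) (B ⧸ J)) (M := Gbar M b J)

end

end GrothLib.FlatGr5
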