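import Mathlib

/-! # The associated graded module of an ideal as a module over a polynomial ring, and its base changes -/

set_option autoImplicit false
set_option linter.style.haveILetI false
universe u

open TensorProduct

namespace GrothLib.FlatGr5

section Act

variable {C : Type u} [CommRing C] (R : Type u) [CommRing R] [Algebra C R]
  (T : Type u) [CommRing T] [Algebra C T] (P : Type u) [AddCommGroup P] [Module C P] [Module T P]
  [IsScalarTower C T P]

/-- The action of `R ⊗ T` on `R ⊗ P`. -/
noncomputable def act : R ⊗[C] T →ₐ[C] Module.End C (R ⊗[C] P) :=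
  (Module.endTensorEndAlgHom (R := C) (S := C) (A := C) (M := R) (N := P)).comp
    (Algebra.TensorProduct.map (Algebra.lsmul C C R) (Algebra.lsmul C C P))

noncomputable instance actModule : Module (R ⊗[C] T) (R ⊗[C] P) :=
  Module.compHom _ (act R T P).toRingHom

theorem act_tmul (r r' : R) (t : T) (p : P) : (r ⊗ₜ[C] t) • (r' ⊗ₜ[C] p) = (r * r') ⊗ₜ[C] (t • p) := rfl

theorem act_algebraMap (r : R) (x : R ⊗[C] P) : (r ⊗ₜ[C] (1 : T)) • x = r • x := by
  induction x using TensorProduct.induction_on with
  | zero => rw [smul_zero, smul_zero]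
  | add a b ha hb => rw [smul_add, smul_add, ha, hb]
  | tmul r' p => rw [act_tmul, one_smul, TensorProduct.smul_tmul', smul_eq_mul]

theorem act_one_tmul (t : T) (x : R ⊗[C] P) :
    ((1 : R) ⊗ₜ[C] t) • x = LinearMap.baseChange R ((Algebra.lsmul C C P) t) x := by
  induction x using TensorProduct.induction_on with
  | zero => rw [smul_zero, map_zero]
  | add a b ha hb => rw [smul_add, map_add, ha, hb]
  | tmul r' p => rw [act_tmul, one_mul, LinearMap.baseChange_tmul]; rfl

instance : IsScalarTower R (R ⊗[C] T) (R ⊗[C] P) :=
  IsScalarTower.of_algebraMap_smul fun r x => by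
    rw [Algebra.TensorProduct.algebraMap_apply, Algebra.algebraMap_self, RingHom.id_apply, act_algebraMap]

theorem tmul_smul_eq (r : R) (t : T) (x : R ⊗[C] P) :
    (r ⊗ₜ[C] t) • x = r • (((1 : R) ⊗ₜ[C] t) • x) := by
  rw [← act_algebraMap R T P r, ← mul_smul, Algebra.TensorProduct.tmul_mul_tmul, mul_one, one_mul]

instance finite_act [Module.Finite T P] : Module.Finite (R ⊗[C] T) (R ⊗[C] P) := by
  classical
  obtain ⟨s, hs⟩ := (Module.Finite.fg_top : (⊤ : Submodule T P).FG)
  refine ⟨⟨s.image fun p => (1 : R) ⊗ₜ[C] p, Submodule.eq_top_iff'.2 fun x => ?_⟩⟩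
  induction x using TensorProduct.induction_on with
  | zero => exact zero_mem _
  | add a b ha hb => exact add_mem ha hb
  | tmul r p =>
    have hp : p ∈ Submodule.span T (s : Set P) := hs.ge trivial
    induction hp using Submodule.span_induction generalizing r with
    | mem y hy =>
      have e : r ⊗ₜ[C] y = (r ⊗ₜ[C] (1 : T)) • ((1 : R) ⊗ₜ[C] y) := by rw [act_tmul, mul_one, one_smul]
      rw [e]
      exact Submodule.smul_mem _ _ (Submodule.subset_span (Finset.mem_coe.2 (Finset.mem_image_of_mem _ hy)))
    | zero => rw [TensorProduct.tmul_zero]; exact zero_mem _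
    | add y z _ _ hy hz => rw [TensorProduct.tmul_add]; exact add_mem (hy r) (hz r)
    | smul t y _ hy =>
      have e : r ⊗ₜ[C] (t • y) = ((1 : R) ⊗ₜ[C] t) • (r ⊗ₜ[C] y) := by rw [act_tmul, one_mul]
      rw [e]
      exact Submodule.smul_mem _ _ (hy r)

end Act

end GrothLib.FlatGr5

namespace GrothLib.FlatGr5

open MvPolynomial

variable {C : Type u} [CommRing C] {B : Type u} [CommRing B] [Algebra C B]
variable (M : Type u) [AddCommGroup M] [Module B M] [Module C M] [IsScalarTower C B M]
variable {r : ℕ} (b : Fin r → B)

/-- The polynomial ring. -/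
abbrev Tb (B : Type u) [CommRing B] (r : ℕ) : Type u := MvPolynomial (Fin r) B

/-- `B[T] ⊗ M`. -/
abbrev Pm (B : Type u) [CommRing B] (M : Type u) [AddCommGroup M] [Module B M] (r : ℕ) : Type u :=
  MvPolynomial (Fin r) B ⊗[B] M

/-- The ideal. -/
abbrev Jb : Ideal B := Ideal.span (Set.range b)

variable (C) in
/-- The degree `n` component. -/
noncomputable def proj (n : ℕ) : Pm B M r →ₗ[C] Pm B M r :=
  (LinearMap.rTensor M (homogeneousComponent n)).restrictScalars C

variable (C) in
/-- Evaluation of the degree `n` component. -/
noncomputable def ev (n : ℕ) : Pm B M r →ₗ[C] M :=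
  ((TensorProduct.lid B M).toLinearMap ∘ₗ
    LinearMap.rTensor M ((aeval b).toLinearMap ∘ₗ homogeneousComponent n)).restrictScalars C

theorem proj_tmul (n : ℕ) (t : Tb B r) (m : M) : proj C M n (t ⊗ₜ[B] m) = homogeneousComponent n t ⊗ₜ[B] m := rfl

theorem ev_tmul (n : ℕ) (t : Tb B r) (m : M) :
    ev C M b n (t ⊗ₜ[B] m) = aeval b (homogeneousComponent n t) • m := rfl

theorem hc_hc (k n : ℕ) (t : Tb B r) :
    homogeneousComponent k (homogeneousComponent n t) = if k = n then homogeneousComponent n t else 0 :=
  homogeneousComponent_of_mem (homogeneousComponent_mem n t)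

theorem hc_X_mul (n : ℕ) (i : Fin r) (u : Tb B r) :
    homogeneousComponent (n + 1) (X i * u) = X i * homogeneousComponent n u := by
  induction u using MvPolynomial.induction_on' with
  | monomial a c =>
    have h1 : (monomial a c : Tb B r).IsHomogeneous a.degree := isHomogeneous_monomial c rfl
    rw [homogeneousComponent_of_mem h1, homogeneousComponent_of_mem ((isHomogeneous_X B i).mul h1)]
    split_ifs with h h' h'
    · rfl
    · omega
    · omega
    · rw [mul_zero]
  | add p q hp hq => rw [mul_add, map_add, hp, hq, map_add, mul_add]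

theorem hc_X_mul_zero (i : Fin r) (u : Tb B r) : homogeneousComponent 0 (X i * u) = 0 := by
  rw [homogeneousComponent_zero, ← constantCoeff_eq, map_mul, constantCoeff_X, zero_mul, C_0]

theorem proj_proj (k n : ℕ) (x : Pm B M r) : proj C M k (proj C M n x) = if k = n then proj C M n x else 0 := by
  induction x using TensorProduct.induction_on with
  | zero => simp
  | add a c ha hc => split_ifs at * <;> simp [map_add, ha, hc]
  | tmul t m =>
    rw [proj_tmul, proj_tmul, hc_hc]
    split_ifs <;> simp

theorem ev_proj (k n : ℕ) (x : Pm B M r) : ev C M b k (proj C M n x) = if k = n then ev C M b n x else 0 := by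
  induction x using TensorProduct.induction_on with
  | zero => simp
  | add a c ha hc => split_ifs at * <;> simp [map_add, ha, hc]
  | tmul t m =>
    rw [proj_tmul, ev_tmul, hc_hc]
    split_ifs <;> simp [ev_tmul]

theorem proj_C_smul (n : ℕ) (c : B) (x : Pm B M r) :
    proj C M n ((MvPolynomial.C c : Tb B r) • x) = (MvPolynomial.C c : Tb B r) • proj C M n x := by
  induction x using TensorProduct.induction_on with
  | zero => simp
  | add a c ha hc => rw [smul_add, map_add, map_add, smul_add, ha, hc]
  | tmul t m =>
    rw [proj_tmul, TensorProduct.smul_tmul', TensorProduct.smul_tmul', proj_tmul, smul_eq_mul, smul_eq_mul,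
      homogeneousComponent_C_mul]

theorem proj_X_smul (n : ℕ) (i : Fin r) (x : Pm B M r) :
    proj C M (n + 1) ((X i : Tb B r) • x) = (X i : Tb B r) • proj C M n x := by
  induction x using TensorProduct.induction_on with
  | zero => simp
  | add a c ha hc => rw [smul_add, map_add, map_add, smul_add, ha, hc]
  | tmul t m =>
    rw [proj_tmul, TensorProduct.smul_tmul', TensorProduct.smul_tmul', proj_tmul, smul_eq_mul, smul_eq_mul,
      hc_X_mul]

theorem proj_X_smul_zero (i : Fin r) (x : Pm B M r) : proj C M 0 ((X i : Tb B r) • x) = 0 := by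
  induction x using TensorProduct.induction_on with
  | zero => simp
  | add a c ha hc => rw [smul_add, map_add, ha, hc, add_zero]
  | tmul t m =>
    rw [TensorProduct.smul_tmul', proj_tmul, smul_eq_mul, hc_X_mul_zero, TensorProduct.zero_tmul]

theorem ev_C_smul (n : ℕ) (c : B) (x : Pm B M r) :
    ev C M b n ((MvPolynomial.C c : Tb B r) • x) = c • ev C M b n x := by
  induction x using TensorProduct.induction_on with
  | zero => simp
  | add a c ha hc => rw [smul_add, map_add, map_add, smul_add, ha, hc]
  | tmul t m =>
    rw [TensorProduct.smul_tmul', ev_tmul, ev_tmul, smul_eq_mul, homogeneousComponent_C_mul, map_mul, aeval_C,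
      Algebra.algebraMap_self, RingHom.id_apply, mul_smul]

theorem ev_X_smul (n : ℕ) (i : Fin r) (x : Pm B M r) :
    ev C M b (n + 1) ((X i : Tb B r) • x) = b i • ev C M b n x := by
  induction x using TensorProduct.induction_on with
  | zero => simp
  | add a c ha hc => rw [smul_add, map_add, map_add, smul_add, ha, hc]
  | tmul t m => rw [TensorProduct.smul_tmul', ev_tmul, ev_tmul, smul_eq_mul, hc_X_mul, map_mul, aeval_X, mul_smul]

theorem ev_X_smul_zero (i : Fin r) (x : Pm B M r) : ev C M b 0 ((X i : Tb B r) • x) = 0 := by
  induction x using TensorProduct.induction_on with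
  | zero => simp
  | add a c ha hc => rw [smul_add, map_add, ha, hc, add_zero]
  | tmul t m => rw [TensorProduct.smul_tmul', ev_tmul, smul_eq_mul, hc_X_mul_zero, map_zero, zero_smul]

theorem exists_bound (x : Pm B M r) :
    ∃ N, (∀ n, N ≤ n → proj C M n x = 0) ∧ ∑ n ∈ Finset.range N, proj C M n x = x := by
  induction x using TensorProduct.induction_on with
  | zero => exact ⟨0, fun n _ => map_zero _, by simp⟩
  | tmul t m =>
    refine ⟨t.totalDegree + 1, fun n hn => ?_, ?_⟩
    · rw [proj_tmul, homogeneousComponent_eq_zero n t (by omega), TensorProduct.zero_tmul]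
    · simp only [proj_tmul]
      rw [← TensorProduct.sum_tmul, sum_homogeneousComponent]
  | add a c ha hc =>
    obtain ⟨N, h1, h2⟩ := ha
    obtain ⟨N', h1', h2'⟩ := hc
    refine ⟨max N N', fun n hn => by rw [map_add, h1 n (by omega), h1' n (by omega), add_zero], ?_⟩
    simp only [map_add, Finset.sum_add_distrib]
    congr 1
    · conv_rhs => rw [← h2]
      exact (Finset.sum_subset (Finset.range_mono (le_max_left _ _))
        fun n _ hn => h1 n (by simpa using hn)).symm
    · conv_rhs => rw [← h2']
      exact (Finset.sum_subset (Finset.range_mono (le_max_right _ _))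
        fun n _ hn => h1' n (by simpa using hn)).symm

theorem range_ev (n : ℕ) :
    LinearMap.range (ev C M b n) = ((Jb b) ^ n • (⊤ : Submodule B M)).restrictScalars C := by
  apply le_antisymm
  · rintro _ ⟨x, rfl⟩
    induction x using TensorProduct.induction_on with
    | zero => rw [map_zero]; exact zero_mem _
    | add a c ha hc => rw [map_add]; exact add_mem ha hc
    | tmul t m =>
      rw [ev_tmul, Submodule.restrictScalars_mem]
      refine Submodule.smul_mem_smul (I := Jb b ^ n) (N := (⊤ : Submodule B M)) ?_ Submodule.mem_top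
      have h := homogeneousComponent_isHomogeneous n t
      rw [← (homogeneousComponent n t).support_sum_monomial_coeff, map_sum]
      refine Submodule.sum_mem _ fun a ha => ?_
      rw [aeval_monomial]
      refine Ideal.mul_mem_left _ _ ?_
      have hd : a.sum (fun _ e => e) = n := by
        have := h (mem_support_iff.1 ha)
        simpa [Finsupp.weight_apply] using this
      rw [← hd, Finsupp.sum, Finsupp.prod, ← Finset.prod_pow_eq_pow_sum]
      exact Ideal.prod_mem_prod fun i _ => Ideal.pow_mem_pow (Ideal.subset_span (Set.mem_range_self i)) _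
  · induction n with
    | zero =>
      intro m _
      exact ⟨(1 : Tb B r) ⊗ₜ m, by rw [ev_tmul, homogeneousComponent_zero]; simp⟩
    | succ n ih =>
      intro m hm
      rw [Submodule.restrictScalars_mem, pow_succ', mul_smul] at hm
      refine Submodule.smul_induction_on hm (fun a ha z hz => ?_) fun z w hz hw => add_mem hz hw
      obtain ⟨y, hy⟩ := ih hz
      clear hm hz m
      induction ha using Submodule.span_induction with
      | mem a ha =>
        obtain ⟨i, rfl⟩ := ha
        exact ⟨(X i : Tb B r) • y, by rw [ev_X_smul, hy]⟩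
      | zero => rw [zero_smul]; exact zero_mem _
      | add a c _ _ ha hc => rw [add_smul]; exact add_mem ha hc
      | smul c a _ ha =>
        obtain ⟨w, hw⟩ := ha
        exact ⟨(MvPolynomial.C c : Tb B r) • w, by rw [ev_C_smul, hw, smul_eq_mul, mul_smul]⟩

variable (R : Type u) [CommRing R] [Algebra C R]

variable (C) in
/-- `J ^ n M` in `R ⊗ M`. -/
abbrev F (n : ℕ) : Submodule R (R ⊗[C] M) :=
  LinearMap.range ((((Jb b) ^ n • (⊤ : Submodule B M)).restrictScalars C).subtype.baseChange R)

theorem range_ev_baseChange (n : ℕ) : LinearMap.range ((ev C M b n).baseChange R) = F C M b R n := by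
  apply le_antisymm
  · rintro _ ⟨x, rfl⟩
    induction x using TensorProduct.induction_on with
    | zero => rw [map_zero]; exact zero_mem _
    | add a c ha hc => rw [map_add]; exact add_mem ha hc
    | tmul a p => exact ⟨a ⊗ₜ ⟨ev C M b n p, (range_ev M b n).le ⟨p, rfl⟩⟩, rfl⟩
  · rintro _ ⟨x, rfl⟩
    induction x using TensorProduct.induction_on with
    | zero => rw [map_zero]; exact zero_mem _
    | add a c ha hc => rw [map_add]; exact add_mem ha hc
    | tmul a p =>
      obtain ⟨y, hy⟩ := (range_ev (C := C) M b n).ge p.2
      exact ⟨a ⊗ₜ y, by rw [LinearMap.baseChange_tmul, LinearMap.baseChange_tmul, hy]; rfl⟩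

theorem F_zero : F C M b R 0 = ⊤ := by
  rw [eq_top_iff]
  intro x _
  induction x using TensorProduct.induction_on with
  | zero => exact zero_mem _
  | add a c ha hc => exact add_mem (ha trivial) (hc trivial)
  | tmul a m => exact ⟨a ⊗ₜ ⟨m, by simp⟩, rfl⟩

theorem F_succ_le (n : ℕ) : F C M b R (n + 1) ≤ F C M b R n := by
  rintro _ ⟨x, rfl⟩
  induction x using TensorProduct.induction_on with
  | zero => rw [map_zero]; exact zero_mem _
  | add a c ha hc => rw [map_add]; exact add_mem ha hc
  | tmul a p =>
    exact ⟨a ⊗ₜ ⟨(p : M), Submodule.smul_mono_left (Ideal.pow_le_pow_right n.le_succ) p.2⟩, rfl⟩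

theorem F_smul_mem (n : ℕ) {c : B} (a : ℕ) (hc : c ∈ Jb b ^ a) {x : R ⊗[C] M} (hx : x ∈ F C M b R n) :
    ((1 : R) ⊗ₜ[C] c) • x ∈ F C M b R (n + a) := by
  obtain ⟨x, rfl⟩ := hx
  induction x using TensorProduct.induction_on with
  | zero => rw [map_zero, smul_zero]; exact zero_mem _
  | add p q hp hq => rw [map_add, smul_add]; exact add_mem hp hq
  | tmul s p =>
    rw [LinearMap.baseChange_tmul, act_tmul, one_mul]
    refine ⟨s ⊗ₜ ⟨c • (p : M), ?_⟩, rfl⟩
    rw [Submodule.restrictScalars_mem, pow_add, mul_comm, mul_smul]
    exact Submodule.smul_mem_smul hc p.2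

variable (C) in
/-- The relations of the associated graded module. -/
noncomputable def Krel : Submodule (R ⊗[C] Tb B r) (R ⊗[C] Pm B M r) where
  carrier := {x | ∀ n, (ev C M b n).baseChange R x ∈ F C M b R (n + 1)}
  add_mem' := fun hx hy n => by rw [map_add]; exact add_mem (hx n) (hy n)
  zero_mem' := fun n => by rw [map_zero]; exact zero_mem _
  smul_mem' := fun t => by
    induction t with
    | zero =>
      intro x hx n
      convert zero_mem (F C M b R (n + 1)) using 1
      exact (congrArg _ (zero_smul (R ⊗[C] Tb B r) x)).trans (map_zero _)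
    | add s t hs ht => intro x hx n; rw [add_smul, map_add]; exact add_mem (hs hx n) (ht hx n)
    | tmul a t =>
      intro x hx
      induction t using MvPolynomial.induction_on generalizing x with
      | add p q hp hq =>
        intro n
        rw [TensorProduct.tmul_add, add_smul, map_add]
        exact add_mem (hp hx n) (hq hx n)
      | C c =>
        intro n
        rw [tmul_smul_eq, map_smul]
        refine Submodule.smul_mem _ _ ?_
        have e : (ev C M b n).baseChange R (((1 : R) ⊗ₜ[C] (MvPolynomial.C c : Tb B r)) • x) =
            ((1 : R) ⊗ₜ[C] c) • (ev C M b n).baseChange R x := by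
          clear hx
          induction x using TensorProduct.induction_on with
          | zero => simp
          | add p q hp hq => rw [smul_add, map_add, map_add, smul_add, hp, hq]
          | tmul s p => rw [act_tmul, LinearMap.baseChange_tmul, LinearMap.baseChange_tmul, act_tmul, ev_C_smul]
        rw [e]
        exact F_smul_mem M b R (n + 1) 0 (by simp) (hx n)
      | mul_X p i hp =>
        rw [show a ⊗ₜ[C] (p * X i) = (a ⊗ₜ[C] p) * ((1 : R) ⊗ₜ[C] (X i : Tb B r)) by
          rw [Algebra.TensorProduct.tmul_mul_tmul, mul_one], mul_smul]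
        refine hp fun n => ?_
        cases n with
        | zero =>
          have e : (ev C M b 0).baseChange R (((1 : R) ⊗ₜ[C] (X i : Tb B r)) • x) = 0 := by
            clear hx hp
            induction x using TensorProduct.induction_on with
            | zero => simp
            | add p q hp hq => rw [smul_add, map_add, hp, hq, add_zero]
            | tmul s p => rw [act_tmul, LinearMap.baseChange_tmul, ev_X_smul_zero, TensorProduct.tmul_zero]
          rw [e]; exact zero_mem _
        | succ n =>
          have e : (ev C M b (n + 1)).baseChange R (((1 : R) ⊗ₜ[C] (X i : Tb B r)) • x) =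
              ((1 : R) ⊗ₜ[C] b i) • (ev C M b n).baseChange R x := by
            clear hx hp
            induction x using TensorProduct.induction_on with
            | zero => simp
            | add p q hp hq => rw [smul_add, map_add, map_add, smul_add, hp, hq]
            | tmul s p => rw [act_tmul, LinearMap.baseChange_tmul, LinearMap.baseChange_tmul, act_tmul, ev_X_smul]
          rw [e]
          exact F_smul_mem M b R (n + 1) 1 (by rw [pow_one]; exact Ideal.subset_span ⟨i, rfl⟩) (hx n)

theorem mem_Krel {x : R ⊗[C] Pm B M r} :
    x ∈ Krel C M b R ↔ ∀ n, (ev C M b n).baseChange R x ∈ F C M b R (n + 1) := Iff.rfl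

theorem proj_mem_Krel_iff (n : ℕ) (x : R ⊗[C] Pm B M r) :
    (proj C M n).baseChange R x ∈ Krel C M b R ↔ (ev C M b n).baseChange R x ∈ F C M b R (n + 1) := by
  have e : ∀ k, (ev C M b k).baseChange R ((proj C M n).baseChange R x) =
      if k = n then (ev C M b n).baseChange R x else 0 := by
    intro k
    induction x using TensorProduct.induction_on with
    | zero => simp
    | add p q hp hq => split_ifs at * <;> simp [map_add, hp, hq]
    | tmul s p =>
      rw [LinearMap.baseChange_tmul, LinearMap.baseChange_tmul, ev_proj]
      split_ifs <;> simp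
  refine ⟨fun h => ?_, fun h k => ?_⟩
  · have := h n
    rwa [e, if_pos rfl] at this
  · rw [e]
    split_ifs with hk
    · exact hk ▸ h
    · exact zero_mem _

theorem exists_bound_baseChange (x : R ⊗[C] Pm B M r) :
    ∃ N, (∀ n, N ≤ n → (proj C M n).baseChange R x = 0) ∧
      ∑ n ∈ Finset.range N, (proj C M n).baseChange R x = x := by
  induction x using TensorProduct.induction_on with
  | zero => exact ⟨0, fun n _ => map_zero _, by simp⟩
  | tmul s p =>
    obtain ⟨N, h1, h2⟩ := exists_bound (C := C) M p
    refine ⟨N, fun n hn => by rw [LinearMap.baseChange_tmul, h1 n hn, TensorProduct.tmul_zero], ?_⟩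
    simp only [LinearMap.baseChange_tmul]
    rw [← TensorProduct.tmul_sum, h2]
  | add a c ha hc =>
    obtain ⟨N, h1, h2⟩ := ha
    obtain ⟨N', h1', h2'⟩ := hc
    refine ⟨max N N', fun n hn => by rw [map_add, h1 n (by omega), h1' n (by omega), add_zero], ?_⟩
    simp only [map_add, Finset.sum_add_distrib]
    congr 1
    · conv_rhs => rw [← h2]
      exact (Finset.sum_subset (Finset.range_mono (le_max_left _ _))
        fun n _ hn => h1 n (by simpa using hn)).symm
    · conv_rhs => rw [← h2']
      exact (Finset.sum_subset (Finset.range_mono (le_max_right _ _))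
        fun n _ hn => h1' n (by simpa using hn)).symm

/-- A submodule with all components in it is detected componentwise. -/
theorem mem_of_forall_proj {W : Submodule (R ⊗[C] Tb B r) (R ⊗[C] Pm B M r)} {x : R ⊗[C] Pm B M r}
    (h : ∀ n, (proj C M n).baseChange R x ∈ W) : x ∈ W := by
  obtain ⟨N, -, hN⟩ := exists_bound_baseChange M R x
  rw [← hN]
  exact Submodule.sum_mem _ fun n _ => h n

theorem proj_mem_Krel {x : R ⊗[C] Pm B M r} (hx : x ∈ Krel C M b R) (n : ℕ) :
    (proj C M n).baseChange R x ∈ Krel C M b R :=
  (proj_mem_Krel_iff M b R n x).2 (hx n)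

/-- The span of homogeneous elements is homogeneous. -/
theorem proj_mem_span {H : Set (R ⊗[C] Pm B M r)}
    (hH : ∀ h ∈ H, ∃ d, (proj C M d).baseChange R h = h) {x : R ⊗[C] Pm B M r}
    (hx : x ∈ Submodule.span (R ⊗[C] Tb B r) H) (n : ℕ) :
    (proj C M n).baseChange R x ∈ Submodule.span (R ⊗[C] Tb B r) H := by
  induction hx using Submodule.span_induction generalizing n with
  | mem h hh =>
    obtain ⟨d, hd⟩ := hH h hh
    rw [← hd]
    have e : ∀ y : R ⊗[C] Pm B M r, (proj C M n).baseChange R ((proj C M d).baseChange R y) =
        if n = d then (proj C M d).baseChange R y else 0 := fun y => by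
      induction y with
      | zero => simp
      | add p q hp hq => split_ifs at * <;> simp [map_add, hp, hq]
      | tmul s p =>
        rw [LinearMap.baseChange_tmul, LinearMap.baseChange_tmul, proj_proj]
        split_ifs <;> simp
    rw [e]
    split_ifs
    · rw [hd]; exact Submodule.subset_span hh
    · exact zero_mem _
  | zero => rw [map_zero]; exact zero_mem _
  | add y z _ _ hy hz => rw [map_add]; exact add_mem (hy n) (hz n)
  | smul t y hy0 hy =>
    clear hy0
    induction t with
    | zero =>
      convert zero_mem (Submodule.span (R ⊗[C] Tb B r) H) using 1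
      exact (congrArg _ (zero_smul (R ⊗[C] Tb B r) y)).trans (map_zero _)
    | add s t hs ht => rw [add_smul, map_add]; exact add_mem hs ht
    | tmul a t =>
      rw [tmul_smul_eq, map_smul, ← act_algebraMap R (Tb B r) (Pm B M r) a]
      refine Submodule.smul_mem _ _ ?_
      clear a
      induction t using MvPolynomial.induction_on generalizing n with
      | add p q hp hq => rw [TensorProduct.tmul_add, add_smul, map_add]; exact add_mem (hp n) (hq n)
      | C c =>
        have e : (proj C M n).baseChange R (((1 : R) ⊗ₜ[C] (MvPolynomial.C c : Tb B r)) • y) =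
            ((1 : R) ⊗ₜ[C] (MvPolynomial.C c : Tb B r)) • (proj C M n).baseChange R y := by
          clear hy
          induction y with
          | zero => simp
          | add p q hp hq => rw [smul_add, map_add, map_add, smul_add, hp, hq]
          | tmul s p => rw [act_tmul, LinearMap.baseChange_tmul, LinearMap.baseChange_tmul, act_tmul, proj_C_smul]
        rw [e]
        exact Submodule.smul_mem _ _ (hy n)
      | mul_X p i hp =>
        rw [mul_comm p, show (1 : R) ⊗ₜ[C] (X i * p) = ((1 : R) ⊗ₜ[C] (X i : Tb B r)) * ((1 : R) ⊗ₜ[C] p) by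
          rw [Algebra.TensorProduct.tmul_mul_tmul, mul_one], mul_smul]
        generalize hz : ((1 : R) ⊗ₜ[C] p) • y = z at hp
        cases n with
        | zero =>
          have e : (proj C M 0).baseChange R (((1 : R) ⊗ₜ[C] (X i : Tb B r)) • z) = 0 := by
            clear hz hp
            induction z with
            | zero => simp
            | add p q hp hq => rw [smul_add, map_add, hp, hq, add_zero]
            | tmul s p => rw [act_tmul, LinearMap.baseChange_tmul, proj_X_smul_zero, TensorProduct.tmul_zero]
          rw [e]; exact zero_mem _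
        | succ n =>
          have e : (proj C M (n + 1)).baseChange R (((1 : R) ⊗ₜ[C] (X i : Tb B r)) • z) =
              ((1 : R) ⊗ₜ[C] (X i : Tb B r)) • (proj C M n).baseChange R z := by
            clear hz hp
            induction z with
            | zero => simp
            | add p q hp hq => rw [smul_add, map_add, map_add, smul_add, hp, hq]
            | tmul s p => rw [act_tmul, LinearMap.baseChange_tmul, LinearMap.baseChange_tmul, act_tmul, proj_X_smul]
          rw [e]
          exact Submodule.smul_mem _ _ (hp n)

end GrothLib.FlatGr5
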