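import Groth.Agent.Lib.FlatGr5.Fin

/-! # Flatness of the associated graded module comes from a stage -/

set_option autoImplicit false
set_option linter.style.haveILetI false
universe u

open TensorProduct

namespace GrothLib.FlatGr5

variable {C : Type u} [CommRing C] {B : Type u} [CommRing B] [Algebra C B]
variable (M : Type u) [AddCommGroup M] [Module B M] [Module C M] [IsScalarTower C B M]
variable {r : ℕ} (b : Fin r → B)

section Injective

variable (S S' A : Type u) [CommRing S] [Algebra C S] [CommRing S'] [Algebra C S'] [CommRing A] [Algebra C A]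
  [Algebra S S'] [Algebra S' A] [Algebra S A] [IsScalarTower S S' A] [IsScalarTower C S S'] [IsScalarTower C S A]
  [IsScalarTower C S' A]

/-- If `S' ⊗ G_S` is flat and the formation of the relations commutes with `S → A`, then `G_{S'}` is flat. -/
theorem flat_Gm_of_injective (hinj : Function.Injective (algebraMap S' A))
    (hA : ∀ x ∈ Krel C M b A, x ∈ Submodule.span A (theta C S A (Pm B M r) '' (Krel C M b S)))
    [Module.Flat S' (S' ⊗[S] Gm C M b S)] : Module.Flat S' (Gm C M b S') := by
  let K₀ : Submodule S (S ⊗[C] Pm B M r) := (Krel C M b S).restrictScalars S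
  let e₀ := Submodule.Quotient.restrictScalarsEquiv S (Krel C M b S)
  haveI hfl : Module.Flat S' (S' ⊗[S] ((S ⊗[C] Pm B M r) ⧸ K₀)) :=
    Module.Flat.of_linearEquiv (AlgebraTensorModule.congr (LinearEquiv.refl S' S') e₀)
  let ccA := AlgebraTensorModule.cancelBaseChange C S A A (Pm B M r)
  let cc := AlgebraTensorModule.cancelBaseChange C S S' S' (Pm B M r)
  let q : S' ⊗[S] (S ⊗[C] Pm B M r) →ₗ[S] S' ⊗[S] ((S ⊗[C] Pm B M r) ⧸ K₀) := K₀.mkQ.lTensor S'
  let qA : A ⊗[S] (S ⊗[C] Pm B M r) →ₗ[S] A ⊗[S] ((S ⊗[C] Pm B M r) ⧸ K₀) := K₀.mkQ.lTensor A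
  have hK : ∀ x ∈ Krel C M b S', x ∈ Submodule.span S' (theta C S S' (Pm B M r) '' (Krel C M b S)) := by
    intro x hx
    let ι : S' →ₗ[S] A := (IsScalarTower.toAlgHom S S' A).toLinearMap
    have hι : ∀ t, ccA (ι.rTensor _ t) = theta C S' A (Pm B M r) (cc t) := fun t => by
      induction t with
      | zero => simp
      | add p q hp hq => simp [map_add, hp, hq]
      | tmul a z =>
        rw [LinearMap.rTensor_tmul, cancel_tmul, cancel_tmul, theta_smul]
        congr 1
        induction z with
        | zero => simp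
        | add p q hp hq => simp [map_add, hp, hq]
        | tmul c p => rw [theta_tmul, theta_tmul, theta_tmul, ← IsScalarTower.algebraMap_apply]
    have h0 : qA (ι.rTensor _ (cc.symm x)) = 0 := by
      have hmem : ι.rTensor _ (cc.symm x) ∈ LinearMap.ker (K₀.mkQ.baseChange A) := by
        have h2 := Submodule.mem_map_of_mem (f := ccA.symm.toLinearMap) (hA _ (theta_mem_Krel M b S' A hx))
        rw [Submodule.map_span] at h2
        have e : ι.rTensor _ (cc.symm x) = ccA.symm.toLinearMap (theta C S' A (Pm B M r) x) := by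
          apply ccA.injective
          rw [hι, LinearEquiv.apply_symm_apply, LinearEquiv.coe_coe, LinearEquiv.apply_symm_apply]
        rw [e]
        refine (Submodule.span_le.2 ?_) h2
        rintro _ ⟨_, ⟨y, hy, rfl⟩, rfl⟩
        have e2 : ccA.symm (theta C S A _ y) = (1 : A) ⊗ₜ[S] y := by
          apply ccA.injective
          rw [LinearEquiv.apply_symm_apply, cancel_tmul, one_smul]
        show ccA.symm (theta C S A _ y) ∈ _
        rw [e2, SetLike.mem_coe, LinearMap.mem_ker, LinearMap.baseChange_tmul, Submodule.mkQ_apply]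
        exact (congrArg (fun z => (1 : A) ⊗ₜ[S] z) ((Submodule.Quotient.mk_eq_zero K₀).2 hy)).trans
          (TensorProduct.tmul_zero _ _)
      exact hmem
    have hinj' : Function.Injective (ι.rTensor ((S ⊗[C] Pm B M r) ⧸ K₀)) := by
      let N := S' ⊗[S] ((S ⊗[C] Pm B M r) ⧸ K₀)
      let i' : S' →ₗ[S'] A := Algebra.linearMap S' A
      have h1 : Function.Injective (i'.rTensor N) :=
        Module.Flat.rTensor_preserves_injective_linearMap i' hinj
      have h2 : ∀ z, ι.rTensor _ z =
          AlgebraTensorModule.cancelBaseChange S S' A A _ (i'.rTensor N ((1 : S') ⊗ₜ[S'] z)) := fun z => by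
        induction z with
        | zero => simp
        | add p q hp hq => rw [map_add, hp, hq, TensorProduct.tmul_add, map_add, map_add]
        | tmul a g =>
          rw [LinearMap.rTensor_tmul, LinearMap.rTensor_tmul, AlgebraTensorModule.cancelBaseChange_tmul,
            show i' 1 = 1 from map_one (algebraMap S' A), Algebra.smul_def, mul_one]
          rfl
      intro a c hac
      rw [h2, h2] at hac
      simpa [N] using congrArg (TensorProduct.lid S' N)
        (h1 ((AlgebraTensorModule.cancelBaseChange S S' A A _).injective hac))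
    have h1 : q (cc.symm x) = 0 := by
      apply hinj'
      rw [map_zero]
      show (ι.rTensor _ ∘ₗ K₀.mkQ.lTensor S') (cc.symm x) = 0
      rw [LinearMap.rTensor_comp_lTensor, ← LinearMap.lTensor_comp_rTensor]
      exact h0
    obtain ⟨s, hs⟩ := (lTensor_exact (M := K₀) (f := K₀.subtype) (g := K₀.mkQ) S' (LinearMap.exact_subtype_mkQ K₀)
      K₀.mkQ_surjective _).1 h1
    rw [show x = cc (cc.symm x) from (cc.apply_symm_apply x).symm, ← hs]
    clear hs h1 h0
    induction s with
    | zero => rw [map_zero, map_zero]; exact zero_mem _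
    | add p q hp hq => rw [map_add, map_add]; exact add_mem hp hq
    | tmul a y =>
      rw [LinearMap.lTensor_tmul, cancel_tmul]
      exact Submodule.smul_mem _ _ (Submodule.subset_span ⟨_, y.2, rfl⟩)
  obtain ⟨e⟩ := exists_equiv_Gm M b S S' hK
  exact Module.Flat.of_linearEquiv e.symm

end Injective

variable [IsNoetherianRing C] [Algebra.FiniteType C B] [Module.Finite B M]

/-- The graded module over an algebra is finitely presented. -/
theorem finitePresentation_Gm (S : Type u) [CommRing S] [Algebra C S] [IsNoetherianRing S] :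
    Module.FinitePresentation (S ⊗[C] Tb B r) (Gm C M b S) := by
  haveI : Algebra.FiniteType C (Tb B r) := Algebra.FiniteType.trans (S := B) ‹_› inferInstance
  haveI : IsNoetherianRing (S ⊗[C] Tb B r) := Algebra.FiniteType.isNoetherianRing S _
  exact Module.finitePresentation_of_finite _ _

/-- **Flatness of the associated graded module comes from a finitely generated subalgebra.** -/
theorem exists_stage (R : Type u) [CommRing R] [Algebra C R] (h : QFlat C M b R) :
    ∃ S : Subalgebra C R, S.FG ∧ QFlat C M b S := by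
  classical
  obtain ⟨H, hH, hK⟩ := exists_homogeneous_gens M b R (fg_Krel M b R h)
  obtain ⟨S₁, hS₁, hlift⟩ := exists_stage_mem R H
  choose! d hd using fun y hy => (hH y hy).2
  obtain ⟨S, hle, hS, hSf⟩ := exists_stage_qflat M b R (H.image fun y => d y + 1) S₁ hS₁ h
  haveI : IsNoetherianRing S := isNoetherianRing_of_fg hS
  letI : Algebra S₁ S := (Subalgebra.inclusion hle).toRingHom.toAlgebra
  haveI : IsScalarTower C S₁ S := IsScalarTower.of_algebraMap_eq fun _ => rfl
  haveI : IsScalarTower S₁ S R := IsScalarTower.of_algebraMap_eq fun _ => rfl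
  have hsub : ∀ y ∈ H, y ∈ theta C S R (Pm B M r) '' (Krel C M b S) := by
    intro y hy
    obtain ⟨z₁, hz₁⟩ := hlift y hy
    let z := (proj C M (d y)).baseChange S (theta C S₁ S _ z₁)
    have hθ : theta C S R _ (theta C S₁ S (Pm B M r) z₁) = y := by
      rw [← hz₁]
      generalize z₁ = w
      induction w with
      | zero => simp
      | add p q hp hq => simp [map_add, hp, hq]
      | tmul c p => rw [theta_tmul, theta_tmul, theta_tmul, ← IsScalarTower.algebraMap_apply]
    have hz : theta C S R _ z = y := by
      show theta C S R _ ((proj C M (d y)).baseChange S _) = y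
      rw [theta_baseChange, hθ, hd y hy]
    refine ⟨z, ?_, hz⟩
    haveI := hSf (d y + 1) (Finset.mem_image_of_mem _ hy)
    refine (proj_mem_iff M b S (d y) _).2 ?_
    apply mem_Krel_of_theta (C := C) M b S R Subtype.val_injective
    rw [hθ]
    exact (hH y hy).1
  have hA : ∀ x ∈ Krel C M b R, x ∈ Submodule.span R (theta C S R (Pm B M r) '' (Krel C M b S)) := by
    intro x hx
    refine mem_span_base_of_mem_span M S R (Krel C M b S) ?_
    rw [hK] at hx
    exact Submodule.span_mono (fun y hy => hsub y hy) hx
  obtain ⟨eA⟩ := exists_equiv_Gm M b S R hA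
  haveI : Algebra.FiniteType C (Tb B r) := Algebra.FiniteType.trans (S := B) ‹_› inferInstance
  haveI : Algebra.FinitePresentation S (S ⊗[C] Tb B r) := Algebra.FinitePresentation.of_finiteType.mp inferInstance
  haveI := finitePresentation_Gm (C := C) M b (S : Type u)
  haveI : Module.Flat R (Gm C M b R) := flat_Gm_of_qFlat M b R h
  haveI : Module.Flat R (R ⊗[S] Gm C M b S) := Module.Flat.of_linearEquiv eA
  let ι := {T : Subalgebra S R // T.FG}
  obtain ⟨⟨T, hT⟩, hflat⟩ := GrothLib.FlatLimit.exists_stage_flat (A₀ := S) (A := R)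
    (fun T : ι => (T.1 : Type u))
    (fun i i' => ⟨⟨i.1 ⊔ i'.1, i.2.sup i'.2⟩, Subalgebra.inclusion le_sup_left,
      Subalgebra.inclusion le_sup_right, fun _ => rfl, fun _ => rfl⟩)
    (fun F => ⟨⟨Algebra.adjoin S (F : Set R), Subalgebra.fg_adjoin_finset F⟩,
      fun a ha => ⟨⟨a, Algebra.subset_adjoin ha⟩, rfl⟩⟩)
    (fun i p hp => ⟨i, AlgHom.id S _, fun _ => rfl, fun x hx => Subtype.ext (hp x hx)⟩)
    (S ⊗[C] Tb B r) (Gm C M b S)
  haveI hTflat : Module.Flat (T : Type u) (Gm C M b (T : Type u)) :=
    flat_Gm_of_injective (C := C) M b (S : Type u) (T : Type u) R Subtype.val_injective hA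
  have hft : Algebra.FiniteType C T := Algebra.FiniteType.trans (S := S) (S.fg_iff_finiteType.mp hS) (T.fg_iff_finiteType.mp hT)
  refine ⟨T.restrictScalars C, (Subalgebra.fg_iff_finiteType _).2 hft, ?_⟩
  exact @qFlat_of_flat_Gm C _ B _ _ M _ _ _ _ r b (T : Type u) _ _ hTflat

end GrothLib.FlatGr5
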